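import Cfsg.Agent.SM.Glue_m3
import Cfsg.Agent.SM.Ti.Box
import Cfsg.Agent.H826.RgF.Defs_m3
import Cfsg.Agent.H383.Cov.Parity_m3
import Cfsg.Agent.SM.O8.M1B_m3
import Cfsg.Agent.H955.QClass
import Cfsg.Agent.H781.Cov9.Perm_m3
import Cfsg.Agent.H748.JordanTwoPower
import Cfsg.Agent.H529.TwoCycles
import Cfsg.Agent.S0713
import Cfsg.Agent.H386.Rg.AlphaA_m3
import Cfsg.Agent.H100.Ppd.StructC_m3
import Cfsg.Agent.H879.SpNormalizer
import Cfsg.Agent.FastGrp
import Cfsg.Agent.Prune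
set_option linter.all false

section
prune_inst 0x7f00000000000000000000000000000000000000000000000000000000000000000000000000000000000000000000000000000000000000000000000000000000000000000000000000000000000000003fffffffffffffffffffffffffffaeffbdffffffff

section
prune_inst 0xfffdfbbbfdffffffff7e77ffdfdffdf9bb5fffefdff9cbffe269ff0fdf539e4fcdfbaf8ff030fe1ef7e21d10b87843ff7eeeffe26bd87ffffd1ff41ffbee4ff5f7b50871959c340fbe2fff83e0778e7f000000000000000000000000000000000200000000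

-- part: SM/Om/Defs
section
set_option linter.all false
open scoped Cfsg.Agent.FastGrp

/-!
# SM (S3570), socle `PΩ⁻_{2m}(q)`: the linear setting and the boxes (helper87, plan in `notes/SM/ominus.md`)

`V = Fin n → F`, `Q` a quadratic form of minus type, `Og Q = omegaGL Q`.

* `Pr Q m X Y` : `Ω = X Y`, both factors proper;  `Ln Q m T B` : moreover `T` is simple modulo scalars with scalar centraliser.
* `Fld X` : `X` contains an element of primitive prime order for `q ^ n - 1` and normalises a field of prime degree.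
* `Sm Q Y` : the invariant subspaces of dimension at most two lie in one plane, which is hyperbolic if it is invariant.
* `NoNs Q Y` : `Y` fixes no non-singular point.
-/

set_option autoImplicit false
set_option linter.unusedSectionVars false

namespace Cfsg.Agent.SM.Om

open Module QuadraticMap Cfsg Cfsg.Geo Cfsg.Agent.LieClassical.OrthCore Cfsg.Agent.LieClassical.OrthTrans
  Cfsg.Agent.H955 Cfsg.Agent.H884.El
open Cfsg.Agent.H278.Cov (Red Ext)
open Cfsg.Agent.H915.LD (Core)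
open Cfsg.Agent.H100.Ppd (Nat')
open scoped MatrixGroups Matrix

section lin

variable {n : ℕ} {F : Type} [Field F] [Fintype F]

/-- `Ω(Q)` as a group of matrices -/
abbrev Og (Q : QuadraticForm F (Fin n → F)) : Subgroup (GL (Fin n) F) := omegaGL (⇑Q)

/-- the stabiliser of a subspace -/
abbrev St (W : Submodule F (Fin n → F)) : Subgroup (GL (Fin n) F) := subspaceStabilizer W

/-- the right hand side of `S0294` -/
def oM (q m : ℕ) : ℕ := q ^ (m * (m - 1)) * (q ^ m + 1) * ∏ i ∈ Finset.range (m - 1), (q ^ (2 * (i + 1)) - 1)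

/-- the space -/
structure Spc (Q : QuadraticForm F (Fin n → F)) (m : ℕ) : Prop where
  dim : n = 2 * m
  four : 4 ≤ m
  good : Good Q
  minus : ¬ IsPlus Q
  /-- `z = |Z(Ω)|` -/
  ord : ∃ z, (z = 1 ∨ z = 2 ∧ Odd (Fintype.card F)) ∧
    Nat.gcd 4 (Fintype.card F ^ m + 1) * Nat.card (Og Q) = z * oM (Fintype.card F) m

/-- a factorisation of `Ω` -/
structure Pr (Q : QuadraticForm F (Fin n → F)) (m : ℕ) (X Y : Subgroup (GL (Fin n) F)) : Prop extends Spc Q m where
  leX : X ≤ Og Q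
  leY : Y ≤ Og Q
  nX : ¬ Og Q ≤ X
  nY : ¬ Og Q ≤ Y
  fac : ∀ g ∈ Og Q, ∃ x ∈ X, ∃ y ∈ Y, g = x * y

theorem Pr.symm {Q : QuadraticForm F (Fin n → F)} {m : ℕ} {X Y : Subgroup (GL (Fin n) F)} (h : Pr Q m X Y) : Pr Q m Y X :=
  { h.toSpc with
    leX := h.leY
    leY := h.leX
    nX := h.nY
    nY := h.nX
    fac := fun g hg => by
      obtain ⟨x, hx, y, hy, e⟩ := h.fac g⁻¹ (inv_mem hg)
      exact ⟨y⁻¹, inv_mem hy, x⁻¹, inv_mem hx, by rw [← mul_inv_rev, ← e, inv_inv]⟩ }

/-- a factorisation whose first factor is simple modulo scalars and has a scalar centraliser -/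
structure Ln (Q : QuadraticForm F (Fin n → F)) (m : ℕ) (T B : Subgroup (GL (Fin n) F)) : Prop extends Pr Q m T B where
  simple : IsSimpleGroup (H915.LD.Soc T)
  nab : ¬ IsMulCommutative (H915.LD.Soc T)
  cen : ∀ g ∈ Og Q, (∀ t ∈ T, g * t = t * g) → g ∈ scalars (Fin n) F

/-- `X` contains an irreducible element of prime order and normalises a field of prime degree -/
def Fld (X : Subgroup (GL (Fin n) F)) : Prop :=
  ∃ (r s : ℕ) (K : Subalgebra F (Matrix (Fin n) (Fin n) F)), PP (Nat.card F) n r ∧ r ∣ Nat.card X ∧ s.Prime ∧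
    IsFieldSubalgebra s K ∧ X ≤ subalgebraNormalizer K

/-- small invariant subspaces -/
def Sm (Q : QuadraticForm F (Fin n → F)) (Y : Subgroup (GL (Fin n) F)) : Prop :=
  ∃ D : Submodule F (Fin n → F), finrank F D = 2 ∧ (∀ W : Submodule F (Fin n → F), Y ≤ St W → finrank F W ≤ 2 → W ≤ D) ∧
    (∃ W : Submodule F (Fin n → F), W ≠ ⊥ ∧ finrank F W ≤ 2 ∧ Y ≤ St W) ∧ (Y ≤ St D → ∃ e f, Hyp Q e f ∧ D = Submodule.span F {e, f})

/-- no non-singular point is fixed -/
def NoNs (Q : QuadraticForm F (Fin n → F)) (Y : Subgroup (GL (Fin n) F)) : Prop := ∀ v, Q v ≠ 0 → ¬ Y ≤ St (F ∙ v)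

/-- the span of `K W` -/
def kw (K : Subalgebra F (Matrix (Fin n) (Fin n) F)) (W : Submodule F (Fin n → F)) : Submodule F (Fin n → F) :=
  Submodule.span F {v | ∃ y ∈ K, ∃ w ∈ W, v = y *ᵥ w}

end lin

/-! ### the numbers of points -/

def BoxIdx : Prop :=
  ∀ (F : Type) [Field F] [Fintype F] (n m : ℕ) (Q : QuadraticForm F (Fin n → F)) (v : Fin n → F), Spc Q m → v ≠ 0 →
    (Q v = 0 → (St (F ∙ v)).relIndex (Og Q) * (Fintype.card F - 1) =
        (Fintype.card F ^ m + 1) * (Fintype.card F ^ (m - 1) - 1) ∧ {f | Hyp Q v f}.ncard = Fintype.card F ^ (n - 2)) ∧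
    (Q v ≠ 0 → (St (F ∙ v)).relIndex (Og Q) * Nat.gcd 2 (Fintype.card F - 1) =
        Fintype.card F ^ (m - 1) * (Fintype.card F ^ m + 1))

/-! ### S5948 for small primes -/

/-- **Structure** (copy of `H100.Ppd.struct` with `n < r` in place of `2 k + 1 < r`) -/
def BoxSt : Prop :=
  ∀ (F : Type) [Field F] [Fintype F] (n k r : ℕ) (H : Subgroup (GL (Fin n) F)), (Fintype.card F).Prime → 10 ≤ n → k ≤ n →
    n < 2 * k → ¬ IsPrimePow n → PP (Nat.card F) k r → n < r → r ∣ Nat.card H →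
    Red H ∨ Ext (Nat.gcd n k) H ∨ ∃ P, P ≤ H ∧ Core P ∧ ∀ h ∈ H, ∀ x ∈ P, h * x * h⁻¹ ∈ P

/-- **Defining characteristic** (copy of `H100.Ppd.Row.nat_def` with `17 ≤ r` in place of `2 k + 1 < r`) -/
def BoxDf : Prop :=
  ∀ (F : Type) [Field F] [Fintype F] (p n k r : ℕ) [Fact p.Prime] [CharP F p] (P : Subgroup (GL (Fin n) F)), 10 ≤ n → k ≤ n →
    n < 2 * k → PP (Nat.card F) k r → 17 ≤ r → Core P → r ∣ Nat.card (H915.LD.Soc P) → IsLieTypeChar p (H915.LD.Soc P) → Nat' P

/-! ### subgroups of symmetric groups -/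

/-- the symmetric group of degree `c` has no subgroup of index `N` or `2 N` -/
def NoIdx (c N : ℕ) : Prop := ∀ U : Subgroup (Equiv.Perm (Fin c)), U.index ≠ N ∧ U.index ≠ 2 * N

def BoxAlt : Prop :=
  NoIdx 12 528 ∧ NoIdx 13 2080 ∧ NoIdx 13 366080 ∧ NoIdx 19 131328 ∧ NoIdx 19 130815 ∧ NoIdx 20 131328 ∧ NoIdx 20 130815

/-! ### the small cases of the list -/

/-- `n = 8`, `q ≥ 3` -/
def Box8 : Prop :=
  ∀ (F : Type) [Field F] [Fintype F] (Q : QuadraticForm F (Fin 8 → F)) (X Y : Subgroup (GL (Fin 8) F)), Pr Q 4 X Y →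
    3 ≤ Fintype.card F → (Fld X ∧ Sm Q Y) ∨ (Fld Y ∧ Sm Q X)

/-- `n = 8`, `q = 2` -/
def Box82 : Prop :=
  ∀ (F : Type) [Field F] [Fintype F] (Q : QuadraticForm F (Fin 8 → F)) (T B : Subgroup (GL (Fin 8) F)), Ln Q 4 T B →
    Fintype.card F = 2 → (Fld T ∧ Sm Q B) ∨ (Fld B ∧ Sm Q T)

/-- `n = 10`, `q = 2` -/
def Box10 : Prop :=
  ∀ (F : Type) [Field F] [Fintype F] (Q : QuadraticForm F (Fin 10 → F)) (X Y : Subgroup (GL (Fin 10) F)), Pr Q 5 X Y →
    Fintype.card F = 2 → 11 ∣ Nat.card X →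
    Sm Q Y ∧ (Fld X ∨ (NoNs Q Y ∧ ∃ P, ⁅X, X⁆ ≤ P ∧ P ≤ Og Q ∧ Nonempty (P ≃* alternatingGroup (Fin 12))))

/-- `n = 12`, `q = 2` -/
def Box12 : Prop :=
  ∀ (F : Type) [Field F] [Fintype F] (Q : QuadraticForm F (Fin 12 → F)) (X Y : Subgroup (GL (Fin 12) F)), Pr Q 6 X Y →
    Fintype.card F = 2 → 13 ∣ Nat.card X → Fld X ∧ Sm Q Y

/-- `n = 14`, `q = 2` -/
def Box14 : Prop :=
  ∀ (F : Type) [Field F] [Fintype F] (Q : QuadraticForm F (Fin 14 → F)) (Y : Subgroup (GL (Fin 14) F)), Spc Q 7 → Y ≤ Og Q →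
    ¬ Og Q ≤ Y → Fintype.card F = 2 → 13 ∣ Nat.card Y → 17 ∣ Nat.card Y → 31 ∣ Nat.card Y → Red Y

/-- `(n, q, r) = (18, 2, 19), (18, 3, 37), (20, 2, 41)` -/
def BoxK (m q r : ℕ) : Prop :=
  ∀ (F : Type) [Field F] [Fintype F] (n : ℕ) (Q : QuadraticForm F (Fin n → F)) (X Y : Subgroup (GL (Fin n) F)), Pr Q m X Y →
    Fintype.card F = q → r ∣ Nat.card X → (∃ v, v ≠ 0 ∧ Y ≤ St (F ∙ v)) → Fld X

/-! ### the geometric rows -/

/-- `T` is linear over `K`, `B` fixes a point -/
def BoxG1p : Prop :=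
  ∀ (F : Type) [Field F] [Fintype F] (n m s : ℕ) (Q : QuadraticForm F (Fin n → F)) (T B : Subgroup (GL (Fin n) F))
    (K : Subalgebra F (Matrix (Fin n) (Fin n) F)) (v : Fin n → F), Pr Q m T B → s.Prime → IsFieldSubalgebra s K →
    (∀ t ∈ T, ∀ y ∈ K, (t : Matrix (Fin n) (Fin n) F) * y = y * t) → ¬ Red T → v ≠ 0 → B ≤ St (F ∙ v) →
    (T ≤ St (kw K (F ∙ v)) ∨ T ⊓ St (kw K (F ∙ v)) ≤ St (F ∙ v)) → False

/-- `T` is linear over `K`, `B` fixes a hyperbolic plane -/
def BoxG1h : Prop :=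
  ∀ (F : Type) [Field F] [Fintype F] (n m s : ℕ) (Q : QuadraticForm F (Fin n → F)) (T B : Subgroup (GL (Fin n) F))
    (K : Subalgebra F (Matrix (Fin n) (Fin n) F)) (e f : Fin n → F), Pr Q m T B → s.Prime → IsFieldSubalgebra s K →
    (∀ t ∈ T, ∀ y ∈ K, (t : Matrix (Fin n) (Fin n) F) * y = y * t) → 3 ≤ Fintype.card F → Hyp Q e f →
    B ≤ St (Submodule.span F {e, f}) → False

/-- the stabiliser of a singular point normalises `T` -/
def BoxG2s : Prop :=
  ∀ (F : Type) [Field F] [Fintype F] (n m : ℕ) (Q : QuadraticForm F (Fin n → F)) (T B : Subgroup (GL (Fin n) F))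
    (u : Fin n → F), Ln Q m T B → u ≠ 0 → Q u = 0 → T ≤ St (F ∙ u) →
    (∀ g ∈ Og Q ⊓ St (F ∙ u), ∀ t ∈ T, g * t * g⁻¹ ∈ T) → False

/-- the stabiliser of a non-singular point and a field -/
def BoxG2n : Prop :=
  ∀ (F : Type) [Field F] [Fintype F] (n m s : ℕ) (Q : QuadraticForm F (Fin n → F))
    (K : Subalgebra F (Matrix (Fin n) (Fin n) F)) (v : Fin n → F), Spc Q m → s.Prime → IsFieldSubalgebra s K → Q v ≠ 0 →
    (Og Q ⊓ St (F ∙ v) ≤ St (kw K (F ∙ v)) ∨ Og Q ⊓ St (F ∙ v) ⊓ St (kw K (F ∙ v)) ≤ subalgebraNormalizer K) → False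

/-- the stabiliser of a hyperbolic plane and a field -/
def BoxG2h : Prop :=
  ∀ (F : Type) [Field F] [Fintype F] (n m s : ℕ) (Q : QuadraticForm F (Fin n → F)) (T B : Subgroup (GL (Fin n) F))
    (K : Subalgebra F (Matrix (Fin n) (Fin n) F)) (e f : Fin n → F), Ln Q m T B → s.Prime → IsFieldSubalgebra s K →
    B ≤ subalgebraNormalizer K → 3 ≤ Fintype.card F → Hyp Q e f → T ≤ St (Submodule.span F {e, f}) →
    (Og Q ⊓ St (Submodule.span F {e, f}) ≤ St (kw K (Submodule.span F {e, f})) ∨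
      Og Q ⊓ St (Submodule.span F {e, f}) ⊓ St (kw K (Submodule.span F {e, f})) ≤ subalgebraNormalizer K) → False

/-! ### the count in degree `495` -/

def Box495 : Prop :=
  ∀ (Ω : Type) [Fintype Ω] [DecidableEq Ω] (X H T : Subgroup (Equiv.Perm Ω)) (a : Ω) (O : Set (Subgroup (Equiv.Perm Ω))),
    Sec X H → MulAction.IsPreprimitive H Ω → SM.Soc H T → Fintype.card Ω = 495 → O.Nonempty →
    (∀ M ∈ O, M ∈ Ov X H ∧ (∃ P, T ≤ P ∧ P < M ∧ Nonempty (P ≃* alternatingGroup (Fin 12))) ∧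
      ∃ Δ : Set Ω, Δ.ncard = 256 ∧ ∀ g ∈ M, g a = a → ∀ b ∈ Δ, g b ∈ Δ) →
    (Nat.card T = 239500800 ∨ Nat.card T = 95040) ∧ O.ncard ≤ 2

end Cfsg.Agent.SM.Om
end

-- part: SM/Om/Idx
section
prune_inst 0x4400200000000000800002000024080000000003000089000802000000000040060000000000800600003801000000100080400000000a003000000300208000400002000004040001810000000000000000000000000000000000010000000000000
set_option linter.all false
open scoped Cfsg.Agent.FastGrp

/-!
# SM (S3570), socle `PΩ⁻_{2m}(q)`: the numbers of points (helper37)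
-/

set_option autoImplicit false
set_option linter.unusedSectionVars false

namespace Cfsg.Agent.SM.Om

open Module QuadraticMap Cfsg Cfsg.Geo Cfsg.Agent.LieClassical.OrthCore Cfsg.Agent.LieClassical.OrthTrans
  Cfsg.Agent.H955
open Cfsg.Agent.SM.CS.Ix (orb ncard_orb card_norm_minus' card_zero_add)
open scoped MatrixGroups Matrix

namespace Idx

variable {n : ℕ} {F : Type} [Field F] [Fintype F] {Q : QuadraticForm F (Fin n → F)}

theorem orb_eq (hG : Good Q) {v : Fin n → F} (hv : v ≠ 0) : orb (Og Q) v = {w | w ≠ 0 ∧ Q w = Q v} := by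
  have hn : 5 ≤ Fintype.card (Fin n) := by
    have h := hG.dim
    rwa [Module.finrank_fintype_fun_eq_card] at h
  ext w
  constructor
  · rintro ⟨g, hg, rfl⟩
    refine ⟨fun h => hv ?_, H925.mem_iso_iff.1 (H925.omegaGL_le_iso _ hg) v⟩
    have h2 : ((g⁻¹ : GL (Fin n) F) : Matrix (Fin n) (Fin n) F) *ᵥ ((g : Matrix (Fin n) (Fin n) F) *ᵥ v) = v := by
      rw [Matrix.mulVec_mulVec, ← Units.val_mul, inv_mul_cancel, Units.val_one, Matrix.one_mulVec]
    rw [← h2, h, Matrix.mulVec_zero]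
  · rintro ⟨h0, hw⟩
    exact H925.exists_trans (H925.isND_of_nondeg hG.nondeg) hn hv h0 hw.symm

theorem ncard_ne_zero : {c : F | c ≠ 0}.ncard = Fintype.card F - 1 := by
  have e : {c : F | c ≠ 0} = Set.univ \ {0} := by
    ext c
    simp
  rw [e, Set.ncard_sdiff_singleton_of_mem (Set.mem_univ _), Set.ncard_univ, Nat.card_eq_fintype_card]

theorem ncard_sq_one : {c : F | c * c = 1}.ncard = Nat.gcd 2 (Fintype.card F - 1) := by
  have e : {c : F | c * c = 1} = {1, -1} := by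
    ext c
    simp only [Set.mem_ofPred_eq, Set.mem_insert_iff, Set.mem_singleton_iff]
    exact mul_self_eq_one_iff
  have h1 : 1 < Fintype.card F := Fintype.one_lt_card
  rw [e]
  by_cases h2 : ringChar F = 2
  · have : CharP F 2 := h2 ▸ ringChar.charP F
    have h3 := FiniteField.even_card_of_char_two h2
    rw [CharTwo.neg_eq, Set.pair_eq_singleton, Set.ncard_singleton]
    have h4 : Nat.Coprime 2 (Fintype.card F - 1) := by
      rw [Nat.coprime_two_left]
      exact Nat.odd_iff.2 (by omega)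
    exact Eq.symm h4
  · have h3 := FiniteField.odd_card_of_char_ne_two h2
    rw [Set.ncard_pair (Ring.neg_one_ne_one_of_char_ne_two h2).symm]
    exact (Nat.gcd_eq_left (by omega)).symm

theorem ncard_partner {x y : Fin n → F} (h : Hyp Q x y) : {f | Hyp Q x f}.ncard = Fintype.card F ^ (n - 2) := by
  have hd := finrank_hperp h
  rw [Module.finrank_fintype_fun_eq_card, Fintype.card_fin] at hd
  have hc : Nat.card (hperp Q x y) = Fintype.card F ^ (n - 2) := by
    rw [Module.natCard_eq_pow_finrank (K := F), Nat.card_eq_fintype_card,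
      show n - 2 = finrank F (hperp Q x y) by omega]
  rw [← hc, ← Nat.card_coe_set_eq]
  symm
  refine Nat.card_congr (Equiv.ofBijective
    (fun w => ⟨y + (w : Fin n → F) - Q (w : Fin n → F) • x, h.left, sing_vec h.symm w.2.2 w.2.1, ?_⟩) ⟨?_, ?_⟩)
  · rw [polar_sub_right, polar_add_right, polar_smul_right, h.pair, w.2.1, h.polar_left]
    simp
  · intro w w' e
    have e1 : y + (w : Fin n → F) - Q (w : Fin n → F) • x = y + (w' : Fin n → F) - Q (w' : Fin n → F) • x :=
      congrArg Subtype.val e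
    have e2 := congrArg (polar Q y) e1
    simp only [polar_sub_right, polar_add_right, polar_smul_right, h.pair', w.2.2, w'.2.2, h.polar_right, smul_eq_mul,
      mul_one, add_zero, zero_sub, neg_inj] at e2
    rw [e2] at e1
    exact Subtype.ext (add_left_cancel (sub_left_injective e1))
  · rintro ⟨f, hf⟩
    have hf' : Hyp Q x f := hf
    refine ⟨⟨proj Q x y f, polar_proj_left h f, polar_proj_right h f⟩, Subtype.ext ?_⟩
    have e1 : Q (hypEquiv h ((hypEquiv h).symm f)) = 0 := by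
      rw [LinearEquiv.apply_symm_apply]
      exact hf'.right
    rw [Q_hypEquiv] at e1
    have e2 : Q (proj Q x y f) + polar Q y f * polar Q x f = 0 := e1
    rw [hf'.pair, mul_one] at e2
    change y + proj Q x y f - Q (proj Q x y f) • x = f
    rw [eq_neg_of_add_eq_zero_left e2, LieClassical.OrthTrans.proj, hf'.pair]
    module

end Idx

theorem boxIdx : BoxIdx := by
  intro F _ _ n m Q v hS hv
  obtain ⟨k, rfl⟩ : ∃ k, m = k + 1 := ⟨m - 1, by have := hS.four; omega⟩
  have hd : finrank F (Fin n → F) = 2 * (k + 1) := by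
    rw [Module.finrank_fintype_fun_eq_card, Fintype.card_fin, hS.dim]
  have ho := ncard_orb (Og Q) hv
  rw [Idx.orb_eq hS.good hv] at ho
  rw [Nat.add_sub_cancel]
  have hq : 1 < Fintype.card F := Fintype.one_lt_card
  refine ⟨fun h0 => ⟨?_, ?_⟩, fun h0 => ?_⟩
  · have e1 : {c : F | c • v ∈ {w | w ≠ 0 ∧ Q w = Q v}} = {c : F | c ≠ 0} := by
      ext c
      simp only [Set.mem_ofPred_eq, QuadraticMap.map_smul, h0, smul_zero, and_true, ne_eq, smul_eq_zero, hv, or_false]
    rw [e1, Idx.ncard_ne_zero] at ho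
    have e2 : {w | w ≠ 0 ∧ Q w = Q v} = {w | Q w = 0} \ {0} := by
      ext w
      simp only [Set.mem_ofPred_eq, h0, Set.mem_sdiff, Set.mem_singleton_iff, ne_eq]
      exact and_comm
    rw [e2, Set.ncard_sdiff_singleton_of_mem (by simp)] at ho
    have h1 := card_zero_add hS.good.nondeg hd
    rw [card_norm_minus' hS.good.nondeg hd hS.minus one_ne_zero, Nat.card_eq_fintype_card (α := F)] at h1
    have h2 : Nat.card {w : Fin n → F // Q w = 0} = {w | Q w = 0}.ncard := Nat.card_coe_set_eq _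
    rw [h2] at h1
    change (St (F ∙ v)).relIndex (Og Q) * _ = _
    rw [← ho]
    obtain ⟨a, ha⟩ : ∃ a, Fintype.card F = a + 1 := ⟨Fintype.card F - 1, by omega⟩
    obtain ⟨b, hb⟩ : ∃ b, Fintype.card F ^ k = b + 1 := ⟨Fintype.card F ^ k - 1, by
      have := Nat.pos_of_ne_zero (pow_ne_zero k (by omega : Fintype.card F ≠ 0))
      omega⟩
    rw [mul_comm 2, pow_mul, pow_succ _ k, hb] at h1
    rw [pow_succ, hb, Nat.add_sub_cancel]
    rw [ha, Nat.add_sub_cancel] at h1
    rw [ha]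
    have h3 : {w | Q w = 0}.ncard = ((b + 1) * (a + 1) + 1) * b + 1 := by nlinarith
    rw [h3, Nat.add_sub_cancel]
  · obtain ⟨y, hy⟩ := exists_hyp hS.good.nondeg h0 hv
    exact Idx.ncard_partner hy
  · have e1 : {c : F | c • v ∈ {w | w ≠ 0 ∧ Q w = Q v}} = {c : F | c * c = 1} := by
      ext c
      simp only [Set.mem_ofPred_eq, QuadraticMap.map_smul, smul_eq_mul]
      constructor
      · rintro ⟨-, h⟩
        exact mul_right_cancel₀ h0 (by rw [h, one_mul])
      · intro h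
        refine ⟨smul_ne_zero (fun hc => ?_) hv, by rw [h, one_mul]⟩
        rw [hc, mul_zero] at h
        exact zero_ne_one h
    rw [e1, Idx.ncard_sq_one] at ho
    have e2 : {w | w ≠ 0 ∧ Q w = Q v} = {w | Q w = Q v} := by
      ext w
      simp only [Set.mem_ofPred_eq, and_iff_right_iff_imp]
      rintro h rfl
      exact h0 (by rw [← h, map_zero])
    rw [e2] at ho
    have h2 : Nat.card {w : Fin n → F // Q w = Q v} = {w | Q w = Q v}.ncard := Nat.card_coe_set_eq _
    change (St (F ∙ v)).relIndex (Og Q) * _ = _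
    rw [← ho, ← h2, card_norm_minus' hS.good.nondeg hd hS.minus h0, Nat.card_eq_fintype_card]

end Cfsg.Agent.SM.Om
end

-- part: SM/Om/G2a
section
prune_inst 0x400000000000001800000000004002000002004000004040020002c0080020400000a03000100090044400300008111000000260000004000000011a008000000000a00c0100000000000000000000000000000000000000000000000000000000000
set_option linter.all false
open scoped Cfsg.Agent.FastGrp

/-!
# SM, family fM, rows G2: Siegel elements and a field of matrices (helper38)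

* `mem_Og` : `g ∈ Og Q ↔ glEquiv g ∈ E Q`;
* `IsSg Q u w g` : the matrix `g` acts as the Siegel transformation of `(u, w)`; `exists_sg`;
* `mem_span_of_norm` : if such a `g` normalises a field `K` and `y ∈ K` is not scalar then `w ∈ ⟨u, y u⟩`;
* `alt_two` : the pointwise stabiliser in `Ω` of a subspace of codimension at least four does not normalise `K`;
* `alt_one` : what the first alternative gives.
-/

set_option autoImplicit false
set_option linter.unusedSectionVars false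

namespace Cfsg.Agent.SM.Om.G2

open Module QuadraticMap Cfsg Cfsg.Geo Cfsg.Agent.LieClassical.OrthCore Cfsg.Agent.LieClassical.OrthTrans
  Cfsg.Agent.LieClassical.OrthFinite
open scoped MatrixGroups Matrix

variable {n : ℕ} {F : Type} [Field F] [Fintype F] {Q : QuadraticForm F (Fin n → F)}

theorem mem_Og (hG : Good Q) (g : GL (Fin n) F) : g ∈ Og Q ↔ glEquiv (Fin n) F g ∈ E Q := by
  have h : (omegaGL (⇑Q)).map (glEquiv (Fin n) F).toMonoidHom = E Q := by
    rw [← hG.commutator_eq_E, ← map_Omega Q, isometryHom, omegaGL, ← Subgroup.map_map]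
  rw [← h]
  constructor
  · intro h
    exact ⟨g, h, rfl⟩
  · rintro ⟨g', hg', e⟩
    have : g' = g := (glEquiv (Fin n) F).injective e
    rw [← this]
    exact hg'

/-- every element of `E Q` is a matrix of `Og Q` -/
theorem exists_Og (hG : Good Q) {x : (Fin n → F) ≃ₗ[F] (Fin n → F)} (hx : x ∈ E Q) :
    ∃ g ∈ Og Q, ∀ v, (g : Matrix (Fin n) (Fin n) F) *ᵥ v = x v := by
  refine ⟨(glEquiv (Fin n) F).symm x, ?_, fun v => ?_⟩
  · rw [mem_Og hG, MulEquiv.apply_symm_apply]
    exact hx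
  · rw [← glEquiv_apply, MulEquiv.apply_symm_apply]

theorem polar_Og (hG : Good Q) {g : GL (Fin n) F} (hg : g ∈ Og Q) (x y : Fin n → F) :
    polar Q ((g : Matrix (Fin n) (Fin n) F) *ᵥ x) ((g : Matrix (Fin n) (Fin n) F) *ᵥ y) = polar Q x y := by
  rw [← glEquiv_apply, ← glEquiv_apply]
  exact polar_map (E_le_O ((mem_Og hG g).1 hg)) x y

theorem Q_Og (hG : Good Q) {g : GL (Fin n) F} (hg : g ∈ Og Q) (x : Fin n → F) :
    Q ((g : Matrix (Fin n) (Fin n) F) *ᵥ x) = Q x := by
  rw [← glEquiv_apply]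
  exact mem_O.1 (E_le_O ((mem_Og hG g).1 hg)) x

theorem mem_St {W : Submodule F (Fin n → F)} {g : GL (Fin n) F} :
    g ∈ St W ↔ ∀ w ∈ W, (g : Matrix (Fin n) (Fin n) F) *ᵥ w ∈ W :=
  H884.OmegaGL.mem_subspaceStabilizer

theorem mul_mv (g h : GL (Fin n) F) (v : Fin n → F) :
    ((g * h : GL (Fin n) F) : Matrix (Fin n) (Fin n) F) *ᵥ v =
      (g : Matrix (Fin n) (Fin n) F) *ᵥ ((h : Matrix (Fin n) (Fin n) F) *ᵥ v) := by
  rw [Units.val_mul, Matrix.mulVec_mulVec]

theorem inv_mv (g : GL (Fin n) F) (v : Fin n → F) :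
    ((g⁻¹ : GL (Fin n) F) : Matrix (Fin n) (Fin n) F) *ᵥ ((g : Matrix (Fin n) (Fin n) F) *ᵥ v) = v := by
  rw [← mul_mv, inv_mul_cancel, Units.val_one, Matrix.one_mulVec]

theorem mv_inv (g : GL (Fin n) F) (v : Fin n → F) :
    (g : Matrix (Fin n) (Fin n) F) *ᵥ (((g⁻¹ : GL (Fin n) F) : Matrix (Fin n) (Fin n) F) *ᵥ v) = v := by
  rw [← mul_mv, mul_inv_cancel, Units.val_one, Matrix.one_mulVec]

theorem mat_ext {a b : Matrix (Fin n) (Fin n) F} (h : ∀ v, a *ᵥ v = b *ᵥ v) : a = b :=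
  Matrix.toLin'.injective (LinearMap.ext fun v => by rw [Matrix.toLin'_apply, Matrix.toLin'_apply]; exact h v)

theorem gl_ext {g h : GL (Fin n) F}
    (e : ∀ v, (g : Matrix (Fin n) (Fin n) F) *ᵥ v = (h : Matrix (Fin n) (Fin n) F) *ᵥ v) : g = h :=
  Units.ext (mat_ext e)

/-- `g` acts as the Siegel transformation of `(u, w)` -/
def IsSg (Q : QuadraticForm F (Fin n → F)) (u w : Fin n → F) (g : GL (Fin n) F) : Prop :=
  ∀ v, (g : Matrix (Fin n) (Fin n) F) *ᵥ v = v + polar Q u v • w - polar Q w v • u - (Q w * polar Q u v) • u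

theorem exists_sg (hG : Good Q) {u w : Fin n → F} (hu : Q u = 0) (hw : polar Q u w = 0) :
    ∃ g ∈ Og Q, IsSg Q u w g := by
  obtain ⟨g, hg, e⟩ := exists_Og hG (siegel_mem_E hu hw)
  exact ⟨g, hg, fun v => by rw [e, siegel_apply]⟩

theorem IsSg.fix {u w : Fin n → F} {g : GL (Fin n) F} (h : IsSg Q u w g) {v : Fin n → F} (h1 : polar Q u v = 0)
    (h2 : polar Q w v = 0) : (g : Matrix (Fin n) (Fin n) F) *ᵥ v = v := by
  rw [h v, h1, h2]
  simp

section field

variable {s : ℕ} {K : Subalgebra F (Matrix (Fin n) (Fin n) F)}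

/-- a nonzero element of the field has no kernel -/
theorem eq_zero_of_mv (hK : IsFieldSubalgebra s K) {y : Matrix (Fin n) (Fin n) F} (hy : y ∈ K) {v : Fin n → F}
    (hv : v ≠ 0) (h : y *ᵥ v = 0) : y = 0 := by
  by_contra h0
  obtain ⟨z, hz, e⟩ := hK.inv y hy h0
  apply hv
  rw [← Matrix.one_mulVec v, ← e, hK.comm y hy z hz, ← Matrix.mulVec_mulVec, h, Matrix.mulVec_zero]

theorem eq_of_mv (hK : IsFieldSubalgebra s K) {y z : Matrix (Fin n) (Fin n) F} (hy : y ∈ K) (hz : z ∈ K)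
    {v : Fin n → F} (hv : v ≠ 0) (h : y *ᵥ v = z *ᵥ v) : y = z :=
  sub_eq_zero.1 (eq_zero_of_mv hK (K.sub_mem hy hz) hv (by rw [Matrix.sub_mulVec, h, sub_self]))

theorem smul_one_mem (c : F) : c • (1 : Matrix (Fin n) (Fin n) F) ∈ K := K.smul_mem K.one_mem c

/-- a non-scalar element of the field has no eigenvector -/
theorem no_eigen (hK : IsFieldSubalgebra s K) {y : Matrix (Fin n) (Fin n) F} (hy : y ∈ K)
    (hys : ∀ c : F, y ≠ c • 1) {v : Fin n → F} (hv : v ≠ 0) (c : F) : y *ᵥ v ≠ c • v := fun h =>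
  hys c (eq_of_mv hK hy (smul_one_mem c) hv (by rw [h, Matrix.smul_mulVec, Matrix.one_mulVec]))

theorem exists_nonscalar (hK : IsFieldSubalgebra s K) (hs : 2 ≤ s) : ∃ y ∈ K, ∀ c : F, y ≠ c • 1 := by
  by_contra h
  push Not at h
  have h1 : Subalgebra.toSubmodule K ≤ F ∙ (1 : Matrix (Fin n) (Fin n) F) := by
    intro y hy
    obtain ⟨c, e⟩ := h y hy
    exact Submodule.mem_span_singleton.2 ⟨c, e.symm⟩
  have h2 := Submodule.finrank_mono h1
  have h3 : finrank F (F ∙ (1 : Matrix (Fin n) (Fin n) F)) ≤ 1 := by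
    by_cases h0 : (1 : Matrix (Fin n) (Fin n) F) = 0
    · rw [h0, Submodule.span_zero_singleton, finrank_bot]
      omega
    · exact (finrank_span_singleton h0).le
  have h4 : finrank F (Subalgebra.toSubmodule K) = s := hK.finrank_eq
  omega

theorem conj_mem {g : GL (Fin n) F} (hg : g ∈ subalgebraNormalizer K) {y : Matrix (Fin n) (Fin n) F} (hy : y ∈ K) :
    (g : Matrix (Fin n) (Fin n) F) * y * ((g⁻¹ : GL (Fin n) F) : Matrix (Fin n) (Fin n) F) ∈ K := (hg y).1 hy

/-- `g y = y' g` with `y' ∈ K` -/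
theorem exists_conj {g : GL (Fin n) F} (hg : g ∈ subalgebraNormalizer K) {y : Matrix (Fin n) (Fin n) F} (hy : y ∈ K) :
    ∃ y' ∈ K, ∀ v, (g : Matrix (Fin n) (Fin n) F) *ᵥ (y *ᵥ v) = y' *ᵥ ((g : Matrix (Fin n) (Fin n) F) *ᵥ v) :=
  ⟨_, conj_mem hg hy, fun v => by rw [← Matrix.mulVec_mulVec, ← Matrix.mulVec_mulVec, inv_mv]⟩

/-- `y g = g y'` with `y' ∈ K` -/
theorem exists_conj' {g : GL (Fin n) F} (hg : g ∈ subalgebraNormalizer K) {y : Matrix (Fin n) (Fin n) F} (hy : y ∈ K) :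
    ∃ y' ∈ K, ∀ v, y *ᵥ ((g : Matrix (Fin n) (Fin n) F) *ᵥ v) = (g : Matrix (Fin n) (Fin n) F) *ᵥ (y' *ᵥ v) := by
  obtain ⟨y', hy', e⟩ := exists_conj (inv_mem hg) hy
  refine ⟨y', hy', fun v => ?_⟩
  have h := e ((g : Matrix (Fin n) (Fin n) F) *ᵥ v)
  rw [inv_mv] at h
  rw [← h, mv_inv]

/-- a Siegel element normalising the field centralises it -/
theorem comm_of_norm (hn : 5 ≤ n) (hK : IsFieldSubalgebra s K) {u w : Fin n → F} {g : GL (Fin n) F} (hg : IsSg Q u w g)
    (hN : g ∈ subalgebraNormalizer K) {y : Matrix (Fin n) (Fin n) F} (hy : y ∈ K) (v : Fin n → F) :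
    (g : Matrix (Fin n) (Fin n) F) *ᵥ (y *ᵥ v) = y *ᵥ ((g : Matrix (Fin n) (Fin n) F) *ᵥ v) := by
  let f : (Fin n → F) →ₗ[F] (Fin 4 → F) := LinearMap.pi
    ![polarBilin Q u, polarBilin Q w, (polarBilin Q u).comp (Matrix.toLin' y), (polarBilin Q w).comp (Matrix.toLin' y)]
  have hker : LinearMap.ker f ≠ ⊥ := LinearMap.ker_ne_bot_of_finrank_lt (by simp; omega)
  obtain ⟨z, hz, hz0⟩ := Submodule.exists_mem_ne_zero_of_ne_bot hker
  have hz' : f z = 0 := hz
  have h0 : polar Q u z = 0 := congrFun hz' 0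
  have h1 : polar Q w z = 0 := congrFun hz' 1
  have h2 : polar Q u (y *ᵥ z) = 0 := congrFun hz' 2
  have h3 : polar Q w (y *ᵥ z) = 0 := congrFun hz' 3
  obtain ⟨y', hy', e⟩ := exists_conj hN hy
  have h4 := e z
  rw [hg.fix h2 h3, hg.fix h0 h1] at h4
  rw [e v, ← eq_of_mv hK hy hy' hz0 h4]

/-- **The second alternative.** If the Siegel element of `(u, w)` normalises the field `K` and `y ∈ K` is not scalar, then
`w` lies in the span of `u` and `y u`. -/
theorem mem_span_of_norm (hQ : Nondeg Q) (hn : 5 ≤ n) (hK : IsFieldSubalgebra s K) {y : Matrix (Fin n) (Fin n) F}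
    (hy : y ∈ K) (hys : ∀ c : F, y ≠ c • 1) {u w : Fin n → F} (hu : u ≠ 0) {g : GL (Fin n) F} (hg : IsSg Q u w g)
    (hN : g ∈ subalgebraNormalizer K) : w ∈ Submodule.span F {u, y *ᵥ u} := by
  rw [Submodule.mem_span_pair]
  by_cases hw : ∀ c : F, w ≠ c • u
  · obtain ⟨x, hx1, hx2⟩ := exists_sep hQ hw
    have h1 : (g : Matrix (Fin n) (Fin n) F) *ᵥ x = x - u := by
      rw [hg x, hx1, hx2]
      simp
    have h2 := comm_of_norm hn hK hg hN hy x
    rw [h1, hg (y *ᵥ x), Matrix.mulVec_sub] at h2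
    set a := polar Q u (y *ᵥ x)
    set b := polar Q w (y *ᵥ x)
    have h3 : y *ᵥ u = (b + Q w * a) • u - a • w := by
      rw [add_smul]
      linear_combination (exp := 1) h2
    have ha : a ≠ 0 := fun h0 => no_eigen hK hy hys hu (b + Q w * a) (by rw [h3, h0, zero_smul, sub_zero])
    refine ⟨a⁻¹ * (b + Q w * a), -a⁻¹, ?_⟩
    rw [h3, smul_sub, smul_smul, smul_smul, neg_mul, neg_mul, inv_mul_cancel₀ ha]
    module
  · push Not at hw
    obtain ⟨c, e⟩ := hw
    exact ⟨c, 0, by rw [e, zero_smul, add_zero]⟩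

end field

/-- the orthogonal complement -/
abbrev pp (Q : QuadraticForm F (Fin n → F)) (W : Submodule F (Fin n → F)) : Submodule F (Fin n → F) :=
  LinearMap.BilinForm.orthogonal (polarBilin Q) W

theorem mem_pp {W : Submodule F (Fin n → F)} {x : Fin n → F} : x ∈ pp Q W ↔ ∀ w ∈ W, polar Q w x = 0 :=
  LinearMap.BilinForm.mem_orthogonal_iff

theorem finrank_pp (hQ : Nondeg Q) (W : Submodule F (Fin n → F)) : finrank F (pp Q W) = n - finrank F W := by
  rw [LinearMap.BilinForm.finrank_orthogonal (H884.SingMax.nondegenerate_of_nondeg hQ)]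
  simp

theorem finrank_sing_le (v : Fin n → F) : finrank F (F ∙ v) ≤ 1 := by
  by_cases h0 : v = 0
  · rw [h0, Submodule.span_zero_singleton, finrank_bot]
    omega
  · exact (finrank_span_singleton h0).le

theorem finrank_pair_le (u v : Fin n → F) : finrank F (Submodule.span F {u, v} : Submodule F (Fin n → F)) ≤ 2 := by
  have h1 := Submodule.finrank_add_le_finrank_add_finrank (F ∙ u) (F ∙ v)
  have h2 := finrank_sing_le u
  have h3 := finrank_sing_le v
  rw [Submodule.span_insert]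
  omega

theorem finrank_sup_sing (R : Submodule F (Fin n → F)) (u : Fin n → F) :
    finrank F (R ⊔ F ∙ u : Submodule F (Fin n → F)) ≤ finrank F R + 1 := by
  have h1 := Submodule.finrank_add_le_finrank_add_finrank R (F ∙ u)
  have h2 := finrank_sing_le u
  omega

/-- the pointwise stabiliser in `Ω` of a subspace of codimension at least four does not normalise a field -/
theorem alt_two (hG : Good Q) {s : ℕ} {K : Subalgebra F (Matrix (Fin n) (Fin n) F)} (hK : IsFieldSubalgebra s K)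
    (hs : 2 ≤ s) (R : Submodule F (Fin n → F)) (hR : finrank F R + 4 ≤ n)
    (h : ∀ g ∈ Og Q, (∀ v ∈ R, (g : Matrix (Fin n) (Fin n) F) *ᵥ v = v) → g ∈ subalgebraNormalizer K) : False := by
  have hn : 5 ≤ n := by simpa using hG.dim
  obtain ⟨y, hy, hys⟩ := exists_nonscalar hK hs
  obtain ⟨u, hu, hu0, hQu⟩ := exists_sing_mem (Q := Q) (pp Q R) (by rw [finrank_pp hG.nondeg]; omega)
  have hnot : ¬ pp Q (R ⊔ F ∙ u) ≤ Submodule.span F {u, y *ᵥ u} := by
    intro hle
    have h1 := Submodule.finrank_mono hle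
    have h2 := finrank_pair_le u (y *ᵥ u)
    have h3 := finrank_sup_sing R u
    rw [finrank_pp hG.nondeg] at h1
    omega
  obtain ⟨w, hw, hw'⟩ := SetLike.not_le_iff_exists.1 hnot
  have huw : polar Q u w = 0 := mem_pp.1 hw u (Submodule.mem_sup_right (Submodule.mem_span_singleton_self u))
  obtain ⟨g, hg, hsg⟩ := exists_sg hG hQu huw
  refine hw' (mem_span_of_norm hG.nondeg hn hK hy hys hu0 hsg (h g hg fun v hv => hsg.fix ?_ ?_))
  · rw [polar_comm]
    exact mem_pp.1 hu v hv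
  · rw [polar_comm]
    exact mem_pp.1 hw v (Submodule.mem_sup_left hv)

/-- the first alternative -/
theorem alt_one (hG : Good Q) {W R : Submodule F (Fin n → F)} (h : Og Q ⊓ St W ≤ St R) {z u : Fin n → F} (hz : z ∈ R)
    (hQu : Q u = 0) (hu : u ∈ pp Q W) (huz : polar Q u z ≠ 0) {w : Fin n → F} (hw : w ∈ pp Q W)
    (huw : polar Q u w = 0) : w ∈ R ⊔ F ∙ u := by
  obtain ⟨g, hg, hsg⟩ := exists_sg hG hQu huw
  have h1 : g ∈ St W := mem_St.2 fun v hv => by
    rw [hsg.fix (by rw [polar_comm]; exact mem_pp.1 hu v hv) (by rw [polar_comm]; exact mem_pp.1 hw v hv)]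
    exact hv
  have h2 := mem_St.1 (h ⟨hg, h1⟩) z hz
  have h3 : w = (polar Q u z)⁻¹ • ((g : Matrix (Fin n) (Fin n) F) *ᵥ z - z) +
      ((polar Q u z)⁻¹ * (polar Q w z + Q w * polar Q u z)) • u := by
    rw [hsg z]
    have : w = ((polar Q u z)⁻¹ * polar Q u z) • w := by rw [inv_mul_cancel₀ huz, one_smul]
    conv_lhs => rw [this]
    module
  rw [h3]
  exact Submodule.add_mem_sup (R.smul_mem _ (R.sub_mem h2 hz))
    (Submodule.smul_mem _ _ (Submodule.mem_span_singleton_self u))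

end Cfsg.Agent.SM.Om.G2
end
end

-- part: SM/Om/G2b
section
set_option linter.all false
open scoped Cfsg.Agent.FastGrp

/-!
# SM, family fM: `boxG2s`, `boxG2n` (helper38)
-/

set_option autoImplicit false
set_option linter.unusedSectionVars false

namespace Cfsg.Agent.SM.Om.G2

open Module QuadraticMap Cfsg Cfsg.Geo Cfsg.Agent.LieClassical.OrthCore Cfsg.Agent.LieClassical.OrthTrans
  Cfsg.Agent.LieClassical.OrthFinite
open scoped MatrixGroups Matrix

variable {n : ℕ} {F : Type} [Field F] [Fintype F] {Q : QuadraticForm F (Fin n → F)}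

/-! ### normal subgroups of a group which is simple modulo scalars -/

theorem normal_cases {T N : Subgroup (GL (Fin n) F)} (hT : IsSimpleGroup (H915.LD.Soc T))
    (hN : ∀ t ∈ T, ∀ x ∈ T, x ∈ N → t * x * t⁻¹ ∈ N) :
    (∀ x ∈ T, x ∈ N → x ∈ scalars (Fin n) F) ∨ ∀ t ∈ T, ∃ x ∈ N, ∃ z ∈ scalars (Fin n) F, t = x * z := by
  have hn : (N.subgroupOf T).Normal := ⟨fun x hx t => hN t t.2 x x.2 hx⟩
  have hM : ((N.subgroupOf T).map (QuotientGroup.mk' ((scalars (Fin n) F).subgroupOf T))).Normal :=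
    hn.map _ (QuotientGroup.mk'_surjective _)
  rcases hT.eq_bot_or_eq_top_of_normal _ hM with h | h
  · left
    intro x hx hxN
    have h1 : QuotientGroup.mk' ((scalars (Fin n) F).subgroupOf T) ⟨x, hx⟩ ∈
        (N.subgroupOf T).map (QuotientGroup.mk' ((scalars (Fin n) F).subgroupOf T)) := ⟨⟨x, hx⟩, hxN, rfl⟩
    rw [h, Subgroup.mem_bot, QuotientGroup.mk'_apply, QuotientGroup.eq_one_iff] at h1
    exact h1
  · right
    intro t ht
    have h1 : QuotientGroup.mk' ((scalars (Fin n) F).subgroupOf T) ⟨t, ht⟩ ∈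
        (N.subgroupOf T).map (QuotientGroup.mk' ((scalars (Fin n) F).subgroupOf T)) := by
      rw [h]
      trivial
    obtain ⟨x, hx, e⟩ := h1
    rw [QuotientGroup.mk'_apply, QuotientGroup.mk'_apply, QuotientGroup.eq] at e
    exact ⟨x, hx, (x : GL (Fin n) F)⁻¹ * t, e, by group⟩

theorem scalar_comm {z : GL (Fin n) F} (hz : z ∈ scalars (Fin n) F) (g : GL (Fin n) F) : z * g = g * z := by
  obtain ⟨c, e⟩ := (mem_scalars_iff z).1 hz
  apply Units.ext
  rw [Units.val_mul, Units.val_mul, e, Matrix.smul_mul, Matrix.mul_smul, one_mul, mul_one]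

theorem scalar_mv {z : GL (Fin n) F} (hz : z ∈ scalars (Fin n) F) :
    ∃ c : F, ∀ v, (z : Matrix (Fin n) (Fin n) F) *ᵥ v = c • v := by
  obtain ⟨c, e⟩ := (mem_scalars_iff z).1 hz
  exact ⟨c, fun v => by rw [e, Matrix.smul_mulVec, Matrix.one_mulVec]⟩

/-- a scalar which fixes a nonzero vector -/
theorem scalar_fix {z : GL (Fin n) F} (hz : z ∈ scalars (Fin n) F) {u : Fin n → F} (hu : u ≠ 0)
    (h : (z : Matrix (Fin n) (Fin n) F) *ᵥ u = u) (v : Fin n → F) : (z : Matrix (Fin n) (Fin n) F) *ᵥ v = v := by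
  obtain ⟨c, e⟩ := scalar_mv hz
  have h1 : (c - 1) • u = 0 := by rw [sub_smul, ← e, h, one_smul, sub_self]
  have h2 : c = 1 := sub_eq_zero.1 ((smul_eq_zero.1 h1).resolve_right hu)
  rw [e, h2, one_smul]

theorem soc_comm {T : Subgroup (GL (Fin n) F)} (h : ∀ a ∈ T, ∀ b ∈ T, a * b = b * a) :
    IsMulCommutative (H915.LD.Soc T) := by
  refine ⟨⟨fun a b => ?_⟩⟩
  obtain ⟨a, rfl⟩ := QuotientGroup.mk_surjective a
  obtain ⟨b, rfl⟩ := QuotientGroup.mk_surjective b
  rw [← QuotientGroup.mk_mul, ← QuotientGroup.mk_mul]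
  exact congrArg _ (Subtype.ext (h a a.2 b b.2))

/-! ### the Siegel group of a singular vector -/

theorem IsSg.mul {u w w' : Fin n → F} {g g' : GL (Fin n) F} (hu : Q u = 0) (hw : polar Q u w = 0)
    (hw' : polar Q u w' = 0) (h : IsSg Q u w g) (h' : IsSg Q u w' g') : IsSg Q u (w + w') (g * g') := fun v => by
  rw [mul_mv, h, h', ← siegelLin_apply, ← siegelLin_apply, ← siegelLin_apply, siegelLin_comp hu hw hw']

theorem IsSg.unique {u w : Fin n → F} {g g' : GL (Fin n) F} (h : IsSg Q u w g) (h' : IsSg Q u w g') : g = g' :=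
  gl_ext fun v => by rw [h, h']

theorem isSg_one (u : Fin n → F) : IsSg Q u 0 1 := fun v => by simp

theorem IsSg.inv (hG : Good Q) {u w : Fin n → F} {g : GL (Fin n) F} (hu : Q u = 0) (hw : polar Q u w = 0)
    (h : IsSg Q u w g) : IsSg Q u (-w) g⁻¹ := by
  have hw' : polar Q u (-w) = 0 := by rw [polar_neg_right, hw, neg_zero]
  obtain ⟨g', -, h'⟩ := exists_sg hG hu hw'
  have h1 := h.mul hu hw hw' h'
  rw [add_neg_cancel] at h1
  rw [inv_eq_of_mul_eq_one_right (h1.unique (isSg_one u))]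
  exact h'

/-- the Siegel group of `u` -/
def Ru (hG : Good Q) {u : Fin n → F} (hu : Q u = 0) : Subgroup (GL (Fin n) F) where
  carrier := {g | ∃ w, polar Q u w = 0 ∧ IsSg Q u w g}
  mul_mem' := by
    rintro g g' ⟨w, hw, h⟩ ⟨w', hw', h'⟩
    exact ⟨w + w', by rw [polar_add_right, hw, hw', add_zero], h.mul hu hw hw' h'⟩
  one_mem' := ⟨0, by simp, isSg_one u⟩
  inv_mem' := by
    rintro g ⟨w, hw, h⟩
    exact ⟨-w, by rw [polar_neg_right, hw, neg_zero], h.inv hG hu hw⟩

theorem Ru_comm (hG : Good Q) {u : Fin n → F} (hu : Q u = 0) {g g' : GL (Fin n) F} (h : g ∈ Ru hG hu)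
    (h' : g' ∈ Ru hG hu) : g * g' = g' * g := by
  obtain ⟨w, hw, h⟩ := h
  obtain ⟨w', hw', h'⟩ := h'
  have h1 := h'.mul hu hw' hw h
  rw [add_comm] at h1
  exact (h.mul hu hw hw' h').unique h1

theorem Ru_fix (hG : Good Q) {u : Fin n → F} (hu : Q u = 0) {g : GL (Fin n) F} (h : g ∈ Ru hG hu) :
    (g : Matrix (Fin n) (Fin n) F) *ᵥ u = u := by
  obtain ⟨w, hw, h⟩ := h
  exact h.fix (polar_self_of_sing hu) (by rw [polar_comm]; exact hw)

theorem Ru_conj (hG : Good Q) {u : Fin n → F} (hu : Q u = 0) {g t : GL (Fin n) F} (h : g ∈ Ru hG hu) (ht : t ∈ Og Q)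
    (htu : t ∈ St (F ∙ u)) : t * g * t⁻¹ ∈ Ru hG hu := by
  obtain ⟨w, hw, h⟩ := h
  obtain ⟨c, hc⟩ := Submodule.mem_span_singleton.1 (mem_St.1 htu u (Submodule.mem_span_singleton_self u))
  refine ⟨c • (t : Matrix (Fin n) (Fin n) F) *ᵥ w, ?_, fun v => ?_⟩
  · have h1 := polar_Og hG ht u w
    rw [← hc, polar_smul_left, hw] at h1
    rw [polar_smul_right]
    exact h1
  · obtain ⟨x, rfl⟩ : ∃ x, v = (t : Matrix (Fin n) (Fin n) F) *ᵥ x := ⟨_, (mv_inv t v).symm⟩
    have h1 := polar_Og hG ht u x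
    rw [← hc, polar_smul_left, smul_eq_mul] at h1
    rw [mul_mv, mul_mv, inv_mv, h, polar_smul_left, polar_Og hG ht, QuadraticMap.map_smul, Q_Og hG ht,
      Matrix.mulVec_sub, Matrix.mulVec_sub, Matrix.mulVec_add, Matrix.mulVec_smul, Matrix.mulVec_smul,
      Matrix.mulVec_smul, ← hc, ← h1]
    simp only [smul_eq_mul]
    module

end G2

open G2 Module QuadraticMap Cfsg Cfsg.Geo Cfsg.Agent.LieClassical.OrthCore Cfsg.Agent.LieClassical.OrthTrans
  Cfsg.Agent.LieClassical.OrthFinite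
open scoped MatrixGroups Matrix

theorem boxG2s : BoxG2s := by
  intro F _ _ n m Q T B u h hu0 hu hT hN
  have hG := h.good
  obtain ⟨f, hf⟩ := exists_hyp hG.nondeg hu hu0
  obtain ⟨w, hw0, hw⟩ := exists_perp_ne (Q := Q) ![u, f] (by have := hG.dim; omega)
  have huw : polar Q u w = 0 := hw 0
  have hfw : polar Q f w = 0 := hw 1
  have hwu : ∀ c : F, w ≠ c • u := by
    intro c e
    rw [e, polar_smul_right, hf.pair', smul_eq_mul, mul_one] at hfw
    exact hw0 (by rw [e, hfw, zero_smul])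
  obtain ⟨g, hg, hsg⟩ := exists_sg hG hu huw
  have hgR : g ∈ Ru hG hu := ⟨w, huw, hsg⟩
  have hgS : g ∈ St (F ∙ u) := G2.mem_St.2 fun v hv => by
    obtain ⟨c, rfl⟩ := Submodule.mem_span_singleton.1 hv
    rw [Matrix.mulVec_smul, Ru_fix hG hu hgR]
    exact hv
  rcases normal_cases (N := Ru hG hu) h.simple (fun t ht x _ hx => Ru_conj hG hu hx (h.leX ht) (hT ht)) with h1 | h1
  · have h2 : ∀ t ∈ T, g * t = t * g := by
      intro t ht
      have h3 : g * t * g⁻¹ * t⁻¹ ∈ T := mul_mem (hN g ⟨hg, hgS⟩ t ht) (inv_mem ht)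
      have h4 : g * t * g⁻¹ * t⁻¹ ∈ Ru hG hu := by
        have := mul_mem hgR (Ru_conj hG hu (inv_mem hgR) (h.leX ht) (hT ht))
        rwa [← mul_assoc, ← mul_assoc] at this
      have h5 : g * t * g⁻¹ * t⁻¹ = 1 := G2.gl_ext fun v => by
        rw [scalar_fix (h1 _ h3 h4) hu0 (Ru_fix hG hu h4), Units.val_one, Matrix.one_mulVec]
      calc g * t = g * t * g⁻¹ * t⁻¹ * (t * g) := by group
        _ = t * g := by rw [h5, one_mul]
    obtain ⟨x, hx1, hx2⟩ := exists_sep hG.nondeg hwu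
    have h3 := scalar_fix (h.cen g hg h2) hu0 (Ru_fix hG hu hgR) x
    rw [hsg, hx1, hx2] at h3
    apply hu0
    simpa using h3
  · refine h.nab (soc_comm fun a ha b hb => ?_)
    obtain ⟨x, hx, z, hz, rfl⟩ := h1 a ha
    obtain ⟨x', hx', z', hz', rfl⟩ := h1 b hb
    calc x * z * (x' * z') = x * (z * (x' * z')) := by group
      _ = x * x' * (z' * z) := by rw [scalar_comm hz]; group
      _ = x' * (x * z') * z := by rw [Ru_comm hG hu hx hx']; group
      _ = x' * z' * (x * z) := by rw [← scalar_comm hz']; group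

namespace G2

variable {n : ℕ} {F : Type} [Field F] [Fintype F] {Q : QuadraticForm F (Fin n → F)}
  {s : ℕ} {K : Subalgebra F (Matrix (Fin n) (Fin n) F)}

/-! ### the span of `K W` -/

theorem le_kw' (K : Subalgebra F (Matrix (Fin n) (Fin n) F)) (W : Submodule F (Fin n → F)) : W ≤ kw K W :=
  fun w hw => Submodule.subset_span ⟨1, K.one_mem, w, hw, (Matrix.one_mulVec w).symm⟩

theorem mv_kw {W : Submodule F (Fin n → F)} {y : Matrix (Fin n) (Fin n) F} (hy : y ∈ K) {w : Fin n → F} (hw : w ∈ W) :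
    y *ᵥ w ∈ kw K W := Submodule.subset_span ⟨y, hy, w, hw, rfl⟩

theorem kw_le {W R : Submodule F (Fin n → F)} (hR : ∀ y ∈ K, ∀ v ∈ R, y *ᵥ v ∈ R) (h : W ≤ R) : kw K W ≤ R := by
  refine Submodule.span_le.2 ?_
  rintro _ ⟨y, hy, w, hw, rfl⟩
  exact hR y hy w (h hw)

theorem kw_inv (W : Submodule F (Fin n → F)) : ∀ y ∈ K, ∀ v ∈ kw K W, y *ᵥ v ∈ kw K W := by
  intro y hy v hv
  have h : kw K W ≤ (kw K W).comap (Matrix.toLin' y) := by
    refine Submodule.span_le.2 ?_
    rintro _ ⟨z, hz, w, hw, rfl⟩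
    show Matrix.toLin' y (z *ᵥ w) ∈ kw K W
    rw [Matrix.toLin'_apply, Matrix.mulVec_mulVec]
    exact mv_kw (K.mul_mem hy hz) hw
  have h1 := h hv
  rwa [Submodule.mem_comap, Matrix.toLin'_apply] at h1

/-- evaluation at a vector -/
def ev (v : Fin n → F) : Matrix (Fin n) (Fin n) F →ₗ[F] (Fin n → F) where
  toFun y := y *ᵥ v
  map_add' a b := Matrix.add_mulVec a b v
  map_smul' c a := Matrix.smul_mulVec c a v

/-- the subspace `K v` -/
def kv (K : Subalgebra F (Matrix (Fin n) (Fin n) F)) (v : Fin n → F) : Submodule F (Fin n → F) :=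
  (Subalgebra.toSubmodule K).map (ev v)

theorem self_kv (v : Fin n → F) : v ∈ kv K v := ⟨1, K.one_mem, Matrix.one_mulVec v⟩

theorem kv_inv (v : Fin n → F) : ∀ y ∈ K, ∀ z ∈ kv K v, y *ᵥ z ∈ kv K v := by
  rintro y hy _ ⟨z, hz, rfl⟩
  exact ⟨y * z, K.mul_mem hy hz, (Matrix.mulVec_mulVec v y z).symm⟩

theorem finrank_kv (hK : IsFieldSubalgebra s K) (v : Fin n → F) : finrank F (kv K v) ≤ s := by
  have h4 : finrank F (Subalgebra.toSubmodule K) = s := hK.finrank_eq
  rw [← h4]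
  exact Submodule.finrank_map_le _ _

theorem dvd_dim (hn : 0 < n) (hK : IsFieldSubalgebra s K) {R : Submodule F (Fin n → F)}
    (hR : ∀ y ∈ K, ∀ v ∈ R, y *ᵥ v ∈ R) : s ∣ finrank F R :=
  haveI : Nonempty (Fin n) := ⟨⟨0, hn⟩⟩
  H906.Cov.dvd_finrank_of_invariant hK R hR

theorem le_half {m : ℕ} (h : Spc Q m) (hs : s.Prime) (hK : IsFieldSubalgebra s K) : s = 2 ∨ s ∣ m := by
  have h4 := h.four
  have hd := h.dim
  have h1 := dvd_dim (R := ⊤) (by omega) hK (fun _ _ _ _ => trivial)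
  rw [finrank_top, finrank_fintype_fun_eq_card, Fintype.card_fin, hd] at h1
  exact ((Nat.Prime.dvd_mul hs).1 h1).imp_left fun h2 => (Nat.prime_dvd_prime_iff_eq hs Nat.prime_two).1 h2

/-- a singular vector of `⟨a, b⟩^⊥` which is not orthogonal to `z` -/
theorem exists_sing_ne {a b x y z v : Fin n → F} (h : Hyp Q x y) (hax : polar Q a x = 0) (hay : polar Q a y = 0)
    (hbx : polar Q b x = 0) (hby : polar Q b y = 0) (hav : polar Q a v = 0) (hbv : polar Q b v = 0)
    (hz : polar Q v z ≠ 0) : ∃ u, Q u = 0 ∧ polar Q a u = 0 ∧ polar Q b u = 0 ∧ polar Q u z ≠ 0 := by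
  by_contra hc
  push Not at hc
  exact hz (sing_induction_perp (P := fun v => polar Q v z = 0) h hax hay hbx hby
    (fun c d _ _ _ _ h1 h2 => by rw [polar_add_left, h1, h2, add_zero]) hc v hav hbv)

end G2

theorem boxG2n : BoxG2n := by
  intro F _ _ n m s Q K v h hs hK hv halt
  have hG := h.good
  have h4 := h.four
  have hd := h.dim
  have hv0 : v ≠ 0 := fun e => hv (by rw [e, map_zero])
  have hsm : s ≤ m := by
    rcases le_half h hs hK with h1 | h1
    · omega
    · exact Nat.le_of_dvd (by omega) h1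
  have hR : finrank F (kw K (F ∙ v)) ≤ m :=
    ((Submodule.finrank_mono (kw_le (kv_inv v) ((Submodule.span_singleton_le_iff_mem _ _).2 (self_kv v)))).trans
      (finrank_kv hK v)).trans hsm
  rcases halt with h1 | h1
  · obtain ⟨y, hy, hys⟩ := exists_nonscalar hK hs.two_le
    obtain ⟨x0, hx1, hx2⟩ := exists_sep hG.nondeg (no_eigen hK hy hys hv0)
    obtain ⟨a, ha0, haQ, ha⟩ := exists_sing_perp (Q := Q) ![v] (by have := hG.dim; omega)
    have hva : polar Q v a = 0 := ha 0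
    obtain ⟨b, hb1, hb2⟩ := exists_sep (x := a) (z := v) hG.nondeg (by
      intro c e
      rw [e, QuadraticMap.map_smul, smul_eq_mul, mul_eq_zero, mul_self_eq_zero] at haQ
      exact ha0 (by rw [e, haQ.resolve_right hv, zero_smul]))
    have hab : Hyp Q a (b - Q b • a) := by
      refine ⟨haQ, ?_, ?_⟩
      · rw [sub_eq_add_neg, ← neg_smul, Q_add, QuadraticMap.map_smul, haQ, polar_smul_right, polar_comm Q b a, hb2]
        simp
      · rw [polar_sub_right, polar_smul_right, polar_self_of_sing haQ, hb2]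
        simp
    have hvb : polar Q v (b - Q b • a) = 0 := by
      rw [polar_sub_right, polar_smul_right, hva, hb1]
      simp
    obtain ⟨u, hu, hvu, -, huz⟩ := exists_sing_ne (z := y *ᵥ v) hab hva hvb hva hvb hx1 hx1
      (by rw [polar_comm, hx2]; exact one_ne_zero)
    have hpp : ∀ x, polar Q v x = 0 → x ∈ pp Q (F ∙ v) := fun x hx => mem_pp.2 fun w hw => by
      obtain ⟨c, rfl⟩ := Submodule.mem_span_singleton.1 hw
      rw [polar_smul_left, hx, smul_zero]
    have hle : pp Q (Submodule.span F {v, u}) ≤ kw K (F ∙ v) ⊔ F ∙ u := fun w hw =>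
      alt_one hG h1 (mv_kw hy (Submodule.mem_span_singleton_self v)) hu (hpp u hvu) huz
        (hpp w (mem_pp.1 hw v (Submodule.subset_span (by simp)))) (mem_pp.1 hw u (Submodule.subset_span (by simp)))
    have h5 := Submodule.finrank_mono hle
    have h6 := finrank_sup_sing (kw K (F ∙ v)) u
    have h7 := finrank_pair_le v u
    rw [finrank_pp hG.nondeg] at h5
    omega
  · refine alt_two hG hK hs.two_le (kw K (F ∙ v)) (by omega) fun g hg hfix => h1 ⟨⟨hg, ?_⟩, ?_⟩
    · exact G2.mem_St.2 fun w hw => by rw [hfix w (le_kw' K _ hw)]; exact hw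
    · exact G2.mem_St.2 fun w hw => by rw [hfix w hw]; exact hw

end Cfsg.Agent.SM.Om
end

section
prune_inst 0xfffdfbbbf9ffffffff7e77aed8dffdf9bb5fffefdff9cbffe661df0fdf13060bc5fbaf89e010fe1ef7e21410b87843fb7eefffe26bdc7ffffd5ff41ffbee4ff5f7b508519c9cb40fbc2fff83e0778e7f000000000000000000000000000000000200000000

-- part: SM/Om/G2
section
prune_inst 0x40000000001885007000004002000000000000008802000004888c40a0400061a02000000010044408300048110000000200000000000000011800800000000000000100200000000000000000000000000000000000000000000000000000000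
set_option linter.all false
open scoped Cfsg.Agent.FastGrp

/-!
# SM, family fM: `boxG2h` (helper38); `boxG2s`, `boxG2n` are in `G2b`
-/

set_option autoImplicit false
set_option linter.unusedSectionVars false

namespace Cfsg.Agent.SM.Om

open Module QuadraticMap Cfsg Cfsg.Geo Cfsg.Agent.LieClassical.OrthCore Cfsg.Agent.LieClassical.OrthTrans
  Cfsg.Agent.LieClassical.OrthFinite
open scoped MatrixGroups Matrix

namespace G2

variable {n : ℕ} {F : Type} [Field F] [Fintype F] {Q : QuadraticForm F (Fin n → F)}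
  {s m : ℕ} {K : Subalgebra F (Matrix (Fin n) (Fin n) F)} {T B : Subgroup (GL (Fin n) F)} {e f : Fin n → F}

theorem Q_pair' (h : Hyp Q e f) (a b : F) : Q (a • e + b • f) = a * b := by
  rw [Q_add, QuadraticMap.map_smul, QuadraticMap.map_smul, polar_smul_left, polar_smul_right, h.left, h.right, h.pair]
  simp

theorem left_mem (e f : Fin n → F) : e ∈ Submodule.span F ({e, f} : Set (Fin n → F)) := Submodule.subset_span (by simp)

theorem right_mem (e f : Fin n → F) : f ∈ Submodule.span F ({e, f} : Set (Fin n → F)) := Submodule.subset_span (by simp)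

theorem mem_pp_pair {x : Fin n → F} (h1 : polar Q e x = 0) (h2 : polar Q f x = 0) :
    x ∈ pp Q (Submodule.span F {e, f}) := mem_pp.2 fun w hw => by
  obtain ⟨a, b, rfl⟩ := Submodule.mem_span_pair.1 hw
  rw [polar_add_left, polar_smul_left, polar_smul_left, h1, h2]
  simp

/-! ### `q ≥ 4` -/

/-- an isometry which stabilises the plane fixes or swaps its singular points -/
theorem fix_or_swap (hG : Good Q) (h : Hyp Q e f) {t : GL (Fin n) F} (ht : t ∈ Og Q)
    (hW : t ∈ St (Submodule.span F {e, f})) :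
    ∃ a b : F, a * b = 1 ∧ (((t : Matrix (Fin n) (Fin n) F) *ᵥ e = a • e ∧ (t : Matrix (Fin n) (Fin n) F) *ᵥ f = b • f) ∨
      ((t : Matrix (Fin n) (Fin n) F) *ᵥ e = a • f ∧ (t : Matrix (Fin n) (Fin n) F) *ᵥ f = b • e)) := by
  obtain ⟨a, b, e1⟩ := Submodule.mem_span_pair.1 (mem_St.1 hW e (left_mem e f))
  obtain ⟨c, d, e2⟩ := Submodule.mem_span_pair.1 (mem_St.1 hW f (right_mem e f))
  have h1 := Q_Og hG ht e
  have h2 := Q_Og hG ht f
  have h3 := polar_Og hG ht e f
  rw [← e1, Q_pair' h, h.left] at h1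
  rw [← e2, Q_pair' h, h.right] at h2
  rw [← e1, ← e2] at h3
  simp only [polar_add_left, polar_add_right, polar_smul_left, polar_smul_right, h.polar_left, h.polar_right, h.pair,
    h.pair', smul_eq_mul] at h3
  rcases mul_eq_zero.1 h1 with h0 | h0
  · have h4 : b * c = 1 := by rw [h0] at h3; linear_combination h3
    have h5 : d = 0 := by linear_combination b * h2 - d * h4
    exact ⟨b, c, h4, Or.inr ⟨by rw [← e1, h0, zero_smul, zero_add], by rw [← e2, h5, zero_smul, add_zero]⟩⟩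
  · have h4 : a * d = 1 := by rw [h0] at h3; linear_combination h3
    have h5 : c = 0 := by linear_combination a * h2 - c * h4
    exact ⟨a, d, h4, Or.inl ⟨by rw [← e1, h0, zero_smul, add_zero], by rw [← e2, h5, zero_smul, zero_add]⟩⟩

/-- `g` is diagonal on the plane and trivial on its complement -/
def IsDg (Q : QuadraticForm F (Fin n → F)) (e f : Fin n → F) (l k : F) (g : GL (Fin n) F) : Prop :=
  ∀ v, (g : Matrix (Fin n) (Fin n) F) *ᵥ v = v + ((l - 1) * polar Q f v) • e + ((k - 1) * polar Q e v) • f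

theorem exists_dg (hG : Good Q) (h : Hyp Q e f) {c d : F} (hc : c * d = 1) :
    ∃ g ∈ Og Q, IsDg Q e f (c * c) (d * d) g := by
  have h1 : Q (d • e + c • f) = 1 := by rw [Q_pair' h, mul_comm, hc]
  have h2 : Q (e + f) = 1 := by simpa using Q_pair' h 1 1
  obtain ⟨g, hg, hv⟩ := exists_Og hG (hG.refl_mul_refl_mem (v := d • e + c • f) (v' := e + f)
    (by rw [h1]; exact one_ne_zero) (by rw [h2]; exact one_ne_zero) (by rw [h1, h2]))
  refine ⟨g, hg, fun v => ?_⟩
  rw [hv, LinearEquiv.mul_apply, refl_apply, refl_apply, h1, h2]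
  simp only [polar_add_left, polar_add_right, polar_sub_right, polar_smul_left, polar_smul_right, h.polar_left,
    h.polar_right, h.pair, h.pair', smul_eq_mul, inv_one, one_mul]
  match_scalars
  · ring
  · linear_combination (polar Q e v) * hc
  · linear_combination (polar Q f v) * hc

theorem IsDg.mul_eq (h : Hyp Q e f) {l k : F} (hl : l * k = 1) {g g' : GL (Fin n) F} (hg : IsDg Q e f l k g)
    (hg' : IsDg Q e f k l g') : g' * g = 1 := by
  refine gl_ext fun v => ?_
  rw [mul_mv, hg', hg, Units.val_one, Matrix.one_mulVec]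
  simp only [polar_add_right, polar_smul_right, h.polar_left, h.polar_right, h.pair, h.pair', smul_eq_mul]
  match_scalars
  · ring
  · linear_combination (polar Q f v) * hl
  · linear_combination (polar Q e v) * hl

theorem IsDg.conj (hG : Good Q) (h : Hyp Q e f) {l k : F} (hl : l * k = 1) {g g' : GL (Fin n) F}
    (hg : IsDg Q e f l k g) (hg' : IsDg Q e f k l g') {t : GL (Fin n) F} (ht : t ∈ Og Q)
    (hW : t ∈ St (Submodule.span F {e, f})) : t * g * t⁻¹ = g ∨ t * g * t⁻¹ = g⁻¹ := by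
  obtain ⟨a, b, hab, ⟨e1, e2⟩ | ⟨e1, e2⟩⟩ := fix_or_swap hG h ht hW
  · left
    rw [mul_inv_eq_iff_eq_mul]
    refine gl_ext fun v => ?_
    have h1 := polar_Og hG ht e v
    have h2 := polar_Og hG ht f v
    rw [e1, polar_smul_left, smul_eq_mul] at h1
    rw [e2, polar_smul_left, smul_eq_mul] at h2
    rw [mul_mv, mul_mv, hg, hg, Matrix.mulVec_add, Matrix.mulVec_add, Matrix.mulVec_smul, Matrix.mulVec_smul, e1, e2,
      ← h1, ← h2]
    match_scalars
    · ring
    · linear_combination ((l - 1) * polar Q f ((t : Matrix (Fin n) (Fin n) F) *ᵥ v)) * hab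
    · linear_combination ((k - 1) * polar Q e ((t : Matrix (Fin n) (Fin n) F) *ᵥ v)) * hab
  · right
    rw [← eq_inv_of_mul_eq_one_left (hg.mul_eq h hl hg'), mul_inv_eq_iff_eq_mul]
    refine gl_ext fun v => ?_
    have h1 := polar_Og hG ht e v
    have h2 := polar_Og hG ht f v
    rw [e1, polar_smul_left, smul_eq_mul] at h1
    rw [e2, polar_smul_left, smul_eq_mul] at h2
    rw [mul_mv, mul_mv, hg, hg', Matrix.mulVec_add, Matrix.mulVec_add, Matrix.mulVec_smul, Matrix.mulVec_smul, e1, e2,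
      ← h1, ← h2]
    match_scalars
    · ring
    · linear_combination ((l - 1) * polar Q e ((t : Matrix (Fin n) (Fin n) F) *ᵥ v)) * hab
    · linear_combination ((k - 1) * polar Q f ((t : Matrix (Fin n) (Fin n) F) *ᵥ v)) * hab

theorem exists_sq_ne (hq : 4 ≤ Fintype.card F) : ∃ c : F, c ≠ 0 ∧ c * c ≠ 1 := by
  classical
  by_contra hc
  push Not at hc
  have h1 : (Finset.univ : Finset F) ⊆ {0, 1, -1} := fun c _ => by
    by_cases h0 : c = 0
    · simp [h0]
    · rcases mul_self_eq_one_iff.1 (hc c h0) with h | h <;> simp [h]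
  have h2 := Finset.card_le_card h1
  have h3 : ({0, 1, -1} : Finset F).card ≤ 3 := Finset.card_le_three
  rw [Finset.card_univ] at h2
  omega

theorem big_case (h : Ln Q m T B) (hq : 4 ≤ Fintype.card F) (hef : Hyp Q e f) (hT : T ≤ St (Submodule.span F {e, f})) :
    False := by
  have hG := h.good
  obtain ⟨c, hc0, hc⟩ := exists_sq_ne hq
  have hcd : c * c⁻¹ = 1 := mul_inv_cancel₀ hc0
  obtain ⟨g, hg, hdg⟩ := exists_dg hG hef hcd
  obtain ⟨g', -, hdg'⟩ := exists_dg hG hef (c := c⁻¹) (d := c) (by rw [mul_comm, hcd])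
  have hl : c * c * (c⁻¹ * c⁻¹) = 1 := by linear_combination (c * c⁻¹ + 1) * hcd
  have key : ∀ t ∈ T, t * g * t⁻¹ = g ∨ t * g * t⁻¹ = g⁻¹ := fun t ht => hdg.conj hG hef hl hdg' (h.leX ht) (hT ht)
  have hmem : ∀ x : GL (Fin n) F, x ∈ Subgroup.centralizer {g} ↔ x * g * x⁻¹ = g := fun x => by
    rw [Subgroup.mem_centralizer_singleton_iff, mul_inv_eq_iff_eq_mul]
  rcases normal_cases (N := Subgroup.centralizer {g}) h.simple (fun t ht x _ hx => by
    rw [hmem] at hx ⊢
    rcases key t⁻¹ (inv_mem ht) with h1 | h1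
    · calc t * x * t⁻¹ * g * (t * x * t⁻¹)⁻¹ = t * (x * (t⁻¹ * g * t⁻¹⁻¹) * x⁻¹) * t⁻¹ := by group
        _ = t * (t⁻¹ * g * t⁻¹⁻¹) * t⁻¹ := by rw [h1, hx]
        _ = g := by group
    · calc t * x * t⁻¹ * g * (t * x * t⁻¹)⁻¹ = t * (x * (t⁻¹ * g * t⁻¹⁻¹) * x⁻¹) * t⁻¹ := by group
        _ = t * (x * g * x⁻¹)⁻¹ * t⁻¹ := by rw [h1]; group
        _ = t * (t⁻¹ * g * t⁻¹⁻¹) * t⁻¹ := by rw [h1, hx]
        _ = g := by group) with h1 | h1
  · refine h.nab (soc_comm fun a ha b hb => ?_)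
    rcases key a ha with h2 | h2
    · exact scalar_comm (h1 a ha ((hmem a).2 h2)) b
    rcases key b⁻¹ (inv_mem hb) with h3 | h3
    · have h4 := scalar_comm (h1 _ (inv_mem hb) ((hmem _).2 h3)) a
      calc a * b = b * (b⁻¹ * a) * b := by group
        _ = b * a := by rw [h4]; group
    · have h4 : a * b⁻¹ ∈ Subgroup.centralizer {g} := by
        rw [hmem]
        calc a * b⁻¹ * g * (a * b⁻¹)⁻¹ = a * (b⁻¹ * g * b⁻¹⁻¹) * a⁻¹ := by group
          _ = (a * g * a⁻¹)⁻¹ := by rw [h3]; group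
          _ = g := by rw [h2, inv_inv]
      have h5 := scalar_comm (h1 _ (mul_mem ha (inv_mem hb)) h4) b
      calc a * b = a * b⁻¹ * b * b := by group
        _ = b * a := by rw [h5]; group
  · have h2 : ∀ t ∈ T, g * t = t * g := by
      intro t ht
      obtain ⟨x, hx, z, hz, rfl⟩ := h1 t ht
      rw [Subgroup.mem_centralizer_singleton_iff] at hx
      calc g * (x * z) = x * (g * z) := by rw [← mul_assoc, ← hx, mul_assoc]
        _ = x * z * g := by rw [← scalar_comm hz, mul_assoc]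
    obtain ⟨w, hw0, -, hw1, hw2⟩ := hG.perp e f hef
    have h3 := scalar_fix (h.cen g hg h2) hw0 (by rw [hdg, hw1, hw2]; simp) e
    rw [hdg, hef.polar_left, hef.pair'] at h3
    have h4 : (c * c - 1) • e = 0 := by simpa using h3
    exact hc (sub_eq_zero.1 ((smul_eq_zero.1 h4).resolve_right hef.left_ne))

/-! ### moving the plane by `B` -/

theorem move (h : Pr Q m T B) {W : Submodule F (Fin n → F)} (hT : T ≤ St W) {g : GL (Fin n) F} (hg : g ∈ Og Q) :
    ∃ b ∈ B, (∀ w ∈ W, ∃ w' ∈ W, (g : Matrix (Fin n) (Fin n) F) *ᵥ w = (b : Matrix (Fin n) (Fin n) F) *ᵥ w') ∧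
      ∀ w ∈ W, ∃ w' ∈ W, (b : Matrix (Fin n) (Fin n) F) *ᵥ w = (g : Matrix (Fin n) (Fin n) F) *ᵥ w' := by
  obtain ⟨b, hb, t, ht, rfl⟩ := h.symm.fac g hg
  exact ⟨b, hb, fun w hw => ⟨_, mem_St.1 (hT ht) w hw, mul_mv b t w⟩,
    fun w hw => ⟨_, mem_St.1 (hT (inv_mem ht)) w hw, by rw [mul_mv, mv_inv]⟩⟩

theorem exists_pair (hG : Good Q) {e' f' : Fin n → F} (h : Hyp Q e f) (h' : Hyp Q e' f') :
    ∃ g ∈ Og Q, (g : Matrix (Fin n) (Fin n) F) *ᵥ e = e' ∧ (g : Matrix (Fin n) (Fin n) F) *ᵥ f = f' := by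
  obtain ⟨x, hx, h1, h2⟩ := hG.trans_hyp h h'
  obtain ⟨g, hg, hv⟩ := exists_Og hG hx
  exact ⟨g, hg, by rw [hv, h1], by rw [hv, h2]⟩

/-- the plane is not invariant under the field -/
theorem inv_case (h : Pr Q m T B) (hK : IsFieldSubalgebra s K) (hs : 2 ≤ s) (hB : B ≤ subalgebraNormalizer K)
    (hef : Hyp Q e f) (hT : T ≤ St (Submodule.span F {e, f})) : ¬ kw K (Submodule.span F {e, f}) ≤ Submodule.span F {e, f} := by
  intro hle
  have hG := h.good
  obtain ⟨y, hy, hys⟩ := exists_nonscalar hK hs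
  obtain ⟨w, hw0, hwQ, hw1, hw2⟩ := hG.perp e f hef
  have hef' : Hyp Q e (f + w) := ⟨hef.left, by rw [Q_add, hef.right, hwQ, hw2]; simp,
    by rw [polar_add_right, hef.pair, hw1, add_zero]⟩
  obtain ⟨g, hg, h1, h2⟩ := exists_pair hG hef hef'
  obtain ⟨b, hb, hb1, hb2⟩ := move h hT hg
  obtain ⟨x, hx, e1⟩ := hb1 e (left_mem e f)
  obtain ⟨y', hy', e2⟩ := exists_conj' (hB hb) hy
  obtain ⟨x', hx', e3⟩ := hb2 _ (hle (mv_kw hy' hx))
  obtain ⟨a, c, rfl⟩ := Submodule.mem_span_pair.1 hx'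
  rw [← e2, ← e1, h1, Matrix.mulVec_add, Matrix.mulVec_smul, Matrix.mulVec_smul, h1, h2] at e3
  obtain ⟨z, hz, hz1, hz2⟩ := exists_hyp_perp hG.nondeg hef hwQ hw0 hw1 hw2
  have h3 := mem_pp.1 (mem_pp_pair hz1 hz2) _ (hle (mv_kw hy (left_mem e f)))
  rw [e3] at h3
  simp only [polar_add_left, polar_smul_left, hz1, hz2, hz.pair, smul_eq_mul] at h3
  have h4 : c = 0 := by linear_combination h3
  exact no_eigen hK hy hys hef.left_ne a (by rw [e3, h4, zero_smul, add_zero])

/-- if the plane spans everything then `K u` is orthogonal to `u` for singular `u` -/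
theorem top_sing (h : Pr Q m T B) (hK : IsFieldSubalgebra s K) (hs : s < n) (hB : B ≤ subalgebraNormalizer K)
    (hef : Hyp Q e f) (hT : T ≤ St (Submodule.span F {e, f})) (htop : kw K (Submodule.span F {e, f}) = ⊤)
    {y : Matrix (Fin n) (Fin n) F} (hy : y ∈ K) {u : Fin n → F} (hu : Q u = 0) : polar Q u (y *ᵥ u) = 0 := by
  by_contra hne
  have hG := h.good
  set x := (polar Q u (y *ᵥ u))⁻¹ • y *ᵥ u with hx
  have hux : polar Q u x = 1 := by rw [hx, polar_smul_right, smul_eq_mul, inv_mul_cancel₀ hne]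
  have huv : Hyp Q u (x - Q x • u) := by
    refine ⟨hu, ?_, ?_⟩
    · rw [sub_eq_add_neg, ← neg_smul, Q_add, QuadraticMap.map_smul Q (-Q x), hu, polar_smul_right, polar_comm Q x u, hux]
      simp
    · rw [polar_sub_right, polar_smul_right Q (Q x), polar_self_of_sing hu, hux]
      simp
  have hmem : x - Q x • u ∈ kv K u :=
    Submodule.sub_mem _ (Submodule.smul_mem _ _ ⟨y, hy, rfl⟩) (Submodule.smul_mem _ _ (self_kv u))
  obtain ⟨g, hg, h1, h2⟩ := exists_pair hG hef huv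
  obtain ⟨b, hb, -, hb2⟩ := move h hT hg
  have h3 : kw K (Submodule.span F {e, f}) ≤ (kv K u).comap (Matrix.toLin' (b : Matrix (Fin n) (Fin n) F)) := by
    refine kw_le (fun z hz v hv => ?_) (fun w hw => ?_)
    · rw [Submodule.mem_comap, Matrix.toLin'_apply] at hv ⊢
      obtain ⟨z', hz', e1⟩ := exists_conj (hB hb) hz
      rw [e1]
      exact kv_inv u z' hz' _ hv
    · rw [Submodule.mem_comap, Matrix.toLin'_apply]
      obtain ⟨w', hw', e1⟩ := hb2 w hw
      obtain ⟨a, c, rfl⟩ := Submodule.mem_span_pair.1 hw'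
      rw [e1, Matrix.mulVec_add, Matrix.mulVec_smul, Matrix.mulVec_smul, h1, h2]
      exact Submodule.add_mem _ (Submodule.smul_mem _ _ (self_kv u)) (Submodule.smul_mem _ _ hmem)
  have h4 : (⊤ : Submodule F (Fin n → F)) ≤ kv K u := fun v _ => by
    have h5 : ((b⁻¹ : GL (Fin n) F) : Matrix (Fin n) (Fin n) F) *ᵥ v ∈ kw K (Submodule.span F {e, f}) := by
      rw [htop]
      trivial
    have h6 := h3 h5
    rwa [Submodule.mem_comap, Matrix.toLin'_apply, mv_inv] at h6
  have h5 := (Submodule.finrank_mono h4).trans (finrank_kv hK u)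
  rw [finrank_top, finrank_fintype_fun_eq_card, Fintype.card_fin] at h5
  omega

/-- a quadratic form which vanishes on the singular vectors is a multiple of `Q` -/
theorem form_eq (hG : Good Q) (P : QuadraticForm F (Fin n → F)) (hP : ∀ u, Q u = 0 → P u = 0) :
    ∃ c : F, ∀ v, P v = c * Q v := by
  obtain ⟨e, f, hef⟩ := hG.exists_hyp
  obtain ⟨x, y, hxy, h1, h2, h3, h4⟩ := hG.exists_hyp2 hef
  have key : ∀ {a b : Fin n → F}, (a = e ∨ a = f) → ∀ w, polar Q e w = 0 → polar Q f w = 0 → polar P a w = 0 := by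
    intro a b ha w hw1 hw2
    refine sing_induction_perp (P := fun v => polar P a v = 0) hxy h1 h2 h3 h4
      (fun c d _ _ _ _ h5 h6 => by rw [polar_add_right, h5, h6, add_zero]) (fun c hc h5 h6 => ?_) w hw1 hw2
    have ha0 : Q a = 0 := by
      rcases ha with rfl | rfl
      · exact hef.left
      · exact hef.right
    have hac : polar Q a c = 0 := by
      rcases ha with rfl | rfl
      · exact h5
      · exact h6
    have h7 := hP (a + c) (by rw [Q_add, ha0, hc, hac]; simp)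
    rw [Q_add, hP a ha0, hP c hc] at h7
    simpa using h7
  refine ⟨polar P e f, fun v => ?_⟩
  have hw1 := polar_proj_left hef v
  have hw2 := polar_proj_right hef v
  have hv : v = (polar Q f v • e + polar Q e v • f) + proj Q e f v := by rw [LieClassical.OrthTrans.proj]; module
  generalize proj Q e f v = w at hw1 hw2 hv
  generalize polar Q f v = a at hv
  generalize polar Q e v = b at hv
  have k1 := key (b := e) (Or.inl rfl) w hw1 hw2
  have k2 := key (b := e) (Or.inr rfl) w hw1 hw2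
  have h5 := hP _ (sing_vec hef hw1 hw2)
  rw [sub_eq_add_neg, ← neg_smul, Q_add, Q_add, QuadraticMap.map_smul, polar_smul_right, polar_add_left,
    hP e hef.left, hP f hef.right, k1, polar_comm P w f, k2] at h5
  rw [hv, Q_add, Q_add (Q := Q), Q_pair' hef, Q_add]
  simp only [QuadraticMap.map_smul, polar_add_left, polar_smul_left, polar_smul_right, hP e hef.left, hP f hef.right,
    k1, k2, hw1, hw2, smul_eq_mul] at h5 ⊢
  linear_combination h5

theorem adj_of_sing (hG : Good Q) {y : Matrix (Fin n) (Fin n) F} (hy : ∀ u, Q u = 0 → polar Q u (y *ᵥ u) = 0) :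
    ∃ c : F, ∀ u v, polar Q (y *ᵥ u) v = polar Q u (c • v - y *ᵥ v) := by
  let P : QuadraticForm F (Fin n → F) := LinearMap.BilinMap.toQuadraticMap ((polarBilin Q).compl₂ (Matrix.toLin' y))
  have hP : ∀ v, P v = polar Q v (y *ᵥ v) := fun v => rfl
  obtain ⟨c, hc⟩ := form_eq hG P (fun u hu => by rw [hP, hy u hu])
  refine ⟨c, fun u v => ?_⟩
  have h1 := hc (u + v)
  have h2 := hc u
  have h3 := hc v
  rw [hP] at h1 h2 h3
  rw [Matrix.mulVec_add, Q_add, polar_add_left, polar_add_right, polar_add_right, polar_comm Q v (y *ᵥ u)] at h1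
  rw [polar_sub_right, polar_smul_right, smul_eq_mul]
  linear_combination h1 - h2 - h3

theorem le_two_of_sing (hG : Good Q) (hK : IsFieldSubalgebra s K) (h2 : (2 : F) ≠ 0)
    (h : ∀ y ∈ K, ∀ u, Q u = 0 → polar Q u (y *ᵥ u) = 0) : s ≤ 2 := by
  by_contra hs
  obtain ⟨z, hz, hzs⟩ := exists_nonscalar hK (by omega)
  obtain ⟨v, hv, -⟩ := hG.sing
  obtain ⟨c, hc⟩ := adj_of_sing hG (h z hz)
  have hx0 : (2 : F) • z *ᵥ v - c • v ≠ 0 := fun h0 => no_eigen hK hz hzs hv (2⁻¹ * c) (by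
    rw [mul_smul, ← sub_eq_zero.1 h0, smul_smul, inv_mul_cancel₀ h2, one_smul])
  have hle : kv K ((2 : F) • z *ᵥ v - c • v) ≤ Submodule.span F {v, z *ᵥ v} := by
    rintro _ ⟨y, hy, rfl⟩
    obtain ⟨d, hd⟩ := adj_of_sing hG (h y hy)
    obtain ⟨k, hk⟩ := adj_of_sing hG (h (y * z) (K.mul_mem hy hz))
    have h3 : k • v - y *ᵥ (z *ᵥ v) = c • (d • v - y *ᵥ v) - z *ᵥ (d • v - y *ᵥ v) := by
      rw [← sub_eq_zero]
      refine hG.nondeg _ fun u => ?_
      rw [polar_comm, polar_sub_right, ← hc, ← hd, Matrix.mulVec_mulVec, Matrix.mulVec_mulVec, ← hk, sub_self]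
    rw [Matrix.mulVec_sub, Matrix.mulVec_smul, Matrix.mulVec_mulVec v z y, hK.comm z hz y hy,
      ← Matrix.mulVec_mulVec] at h3
    refine Submodule.mem_span_pair.2 ⟨k - c * d, d, ?_⟩
    show _ = y *ᵥ ((2 : F) • z *ᵥ v - c • v)
    rw [Matrix.mulVec_sub, Matrix.mulVec_smul, Matrix.mulVec_smul, two_smul, sub_smul, mul_smul]
    rw [smul_sub] at h3
    linear_combination (exp := 1) h3
  have h4 : finrank F (kv K ((2 : F) • z *ᵥ v - c • v)) = s := by
    have h5 : finrank F (Subalgebra.toSubmodule K) = s := hK.finrank_eq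
    rw [← h5, kv, ← LinearMap.range_domRestrict]
    refine LinearMap.finrank_range_of_inj fun a b hab => Subtype.ext (eq_of_mv hK a.2 b.2 hx0 hab)
  have h5 := (Submodule.finrank_mono hle).trans (finrank_pair_le _ _)
  omega

end G2

open G2

theorem boxG2h : BoxG2h := by
  intro F _ _ n m s Q T B K e f h hs hK hB hq hef hT halt
  by_cases hq4 : 4 ≤ Fintype.card F
  · exact big_case h hq4 hef hT
  have hG := h.good
  have h4 := h.four
  have hd := h.dim
  have hs2 := hs.two_le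
  have hsm := le_half h.toSpc hs hK
  have hsm' : s ≤ m := by
    rcases hsm with h1 | h1
    · omega
    · exact Nat.le_of_dvd (by omega) h1
  set W : Submodule F (Fin n → F) := Submodule.span F {e, f} with hW
  have hR2 : finrank F (kw K W) ≤ 2 * s := by
    have h1 : kw K W ≤ kv K e ⊔ kv K f := by
      refine kw_le (fun y hy v hv => ?_) (Submodule.span_le.2 ?_)
      · obtain ⟨a, ha, b, hb, rfl⟩ := Submodule.mem_sup.1 hv
        rw [Matrix.mulVec_add]
        exact Submodule.add_mem_sup (kv_inv e y hy a ha) (kv_inv f y hy b hb)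
      · rintro x (rfl | rfl)
        · exact Submodule.mem_sup_left (self_kv _)
        · exact Submodule.mem_sup_right (self_kv _)
    have h2 := Submodule.finrank_mono h1
    have h3 := Submodule.finrank_add_le_finrank_add_finrank (kv K e) (kv K f)
    have h5 := finrank_kv hK e
    have h6 := finrank_kv hK f
    omega
  have hR4 : kw K W ≠ ⊤ → finrank F (kw K W) + 4 ≤ n := by
    intro hne
    have h1 := Submodule.finrank_lt hne
    rw [finrank_fintype_fun_eq_card, Fintype.card_fin] at h1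
    obtain ⟨a, ha⟩ := dvd_dim (by omega) hK (kw_inv W)
    rcases hsm with h2 | ⟨b, hb⟩
    · omega
    · by_cases h3 : s ≤ 3
      · have h5 : s = 2 ∨ s = 3 := by omega
        rcases h5 with rfl | rfl <;> omega
      · have h5 : s * a < s * (2 * b) := by rw [← ha, mul_left_comm, ← hb]; omega
        have h6 : s * (a + 1) ≤ s * (2 * b) := Nat.mul_le_mul_left s (Nat.lt_of_mul_lt_mul_left h5)
        rw [mul_add, ← ha, mul_left_comm, ← hb] at h6
        omega
  by_cases htop : kw K W = ⊤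
  · rcases halt with - | h1
    · have h2 : (2 : F) ≠ 0 := by
        intro h0
        have h3 : ringChar F = 2 := by
          have := ringChar.dvd (R := F) (x := 2) (by exact_mod_cast h0)
          exact ((Nat.dvd_prime Nat.prime_two).1 this).resolve_left (CharP.ringChar_ne_one)
        have h5 := (FiniteField.even_card_iff_char_two (F := F)).1 h3
        omega
      have h3 := le_two_of_sing hG hK h2 fun y hy u hu => top_sing h.toPr hK (by omega) hB hef hT htop hy hu
      rw [htop, finrank_top, finrank_fintype_fun_eq_card, Fintype.card_fin] at hR2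
      omega
    · refine alt_two hG hK hs2 W (by have := finrank_pair_le e f; rw [← hW] at this; omega) fun g hg hfix => h1 ⟨⟨hg, ?_⟩, ?_⟩
      · exact G2.mem_St.2 fun w hw => by rw [hfix w hw]; exact hw
      · exact G2.mem_St.2 fun w _ => by rw [htop]; trivial
  have hR := hR4 htop
  rcases halt with h1 | h1
  · obtain ⟨z, hz, hzW⟩ := SetLike.not_le_iff_exists.1 (inv_case h.toPr hK hs2 hB hef hT)
    have hz0 : proj Q e f z ≠ 0 := fun h0 => hzW (Submodule.mem_span_pair.2 ⟨polar Q f z, polar Q e z, by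
      rw [LieClassical.OrthTrans.proj] at h0
      linear_combination (exp := 1) -h0⟩)
    obtain ⟨x0, hx0⟩ := hG.nondeg.exists_polar_eq hz0 1
    obtain ⟨x, y, hxy, h2, h3, h5, h6⟩ := hG.exists_hyp2 hef
    obtain ⟨u, hu, heu, hfu, huz⟩ := exists_sing_ne (z := z) hxy h2 h3 h5 h6 (polar_proj_left hef x0)
      (polar_proj_right hef x0) (by
        rw [← polar_proj_of_perp (polar_proj_left hef x0) (polar_proj_right hef x0), polar_comm,
          polar_proj_of_perp (polar_proj_left hef z) (polar_proj_right hef z), hx0]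
        exact one_ne_zero)
    have hle : pp Q (F ∙ u) ≤ kw K W ⊔ F ∙ u := fun v hv => by
      have h7 := mem_pp.1 hv u (Submodule.mem_span_singleton_self u)
      have h8 := alt_one hG h1 hz hu (mem_pp_pair heu hfu) huz
        (mem_pp_pair (polar_proj_left hef v) (polar_proj_right hef v)) (by rw [polar_proj_of_perp heu hfu, h7])
      have hv' : v = (polar Q f v • e + polar Q e v • f) + proj Q e f v := by rw [LieClassical.OrthTrans.proj]; module
      rw [hv']
      exact Submodule.add_mem _ (Submodule.mem_sup_left (le_kw' K W (Submodule.mem_span_pair.2 ⟨_, _, rfl⟩))) h8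
    have h7 := Submodule.finrank_mono hle
    have h8 := finrank_sup_sing (kw K W) u
    have h9 := finrank_sing_le u
    rw [finrank_pp hG.nondeg] at h7
    omega
  · refine alt_two hG hK hs2 (kw K W) hR fun g hg hfix => h1 ⟨⟨hg, ?_⟩, ?_⟩
    · exact G2.mem_St.2 fun w hw => by rw [hfix w (le_kw' K _ hw)]; exact hw
    · exact G2.mem_St.2 fun w hw => by rw [hfix w hw]; exact hw

end Cfsg.Agent.SM.Om

private theorem dce_870b27df855f : _root_.True := by
  try have : _root_.True := by simp only [_root_.Cfsg.Agent.SM.Om.G2.kv.eq_1]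
  exact _root_.True.intro
end

-- part: SM/Om/Alt
section
set_option linter.all false
open scoped Cfsg.Agent.FastGrp

/-!
# SM (S3570): subgroups of small index of symmetric groups, `boxAlt` (helper6)
-/

set_option autoImplicit false

namespace Cfsg.Agent.SM.Om.Al

open Equiv Equiv.Perm MulAction

variable {α : Type} [Fintype α] [DecidableEq α]

omit [Fintype α] [DecidableEq α] in
theorem inv_iff {U : Subgroup (Perm α)} {Γ : Finset α} (h : ∀ g ∈ U, ∀ x ∈ Γ, g x ∈ Γ) (g : U) (x : α) :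
    (g : Perm α) x ∈ Γ ↔ x ∈ Γ :=
  ⟨fun k => by simpa using h _ (U.inv_mem g.2) _ k, h g g.2 x⟩

/-- the restriction to an invariant set -/
def res {U : Subgroup (Perm α)} {Γ : Finset α} (h : ∀ g ∈ U, ∀ x ∈ Γ, g x ∈ Γ) : U →* Perm {x // x ∈ Γ} :=
  MonoidHom.mk' (fun g => (g : Perm α).subtypePerm (inv_iff h g)) fun _ _ => rfl

/-- a cycle of prime length on the invariant set -/
theorem exists_cycle {U : Subgroup (Perm α)} {Γ : Finset α} (h : ∀ g ∈ U, ∀ x ∈ Γ, g x ∈ Γ) {l : ℕ} (hl : l.Prime)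
    (hd : l ∣ Nat.card U) (h1 : Fintype.card α < l + Γ.card) (h2 : Γ.card < 2 * l) :
    ∃ g ∈ (res h).range, g.IsCycle ∧ g.support.card = l := by
  have : Fact l.Prime := ⟨hl⟩
  obtain ⟨g, hg⟩ := exists_prime_orderOf_dvd_card' l hd
  have h3 : orderOf (res h g) = l := ((Nat.dvd_prime hl).1 (hg ▸ orderOf_map_dvd (res h) g)).resolve_left fun e => by
    have h4 : (g : Perm α).support ⊆ Γᶜ := fun x hx => Finset.mem_compl.2 fun k =>
      mem_support.1 hx (congrArg (fun σ : Perm {x // x ∈ Γ} => (σ ⟨x, k⟩ : α)) (orderOf_eq_one_iff.1 e))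
    have h5 := Finset.card_le_card h4
    rw [← Subgroup.orderOf_coe] at hg
    obtain ⟨n, hn⟩ := cycleType_prime_order (σ := (g : Perm α)) (hg ▸ hl)
    rw [Finset.card_compl, ← sum_cycleType, hn, Multiset.sum_replicate, hg, smul_eq_mul, Nat.succ_mul] at h5
    have := Finset.card_le_univ Γ
    omega
  have h4 := isCycle_of_prime_order' (σ := res h g) (h3 ▸ hl) (by rwa [h3, Fintype.card_coe])
  exact ⟨_, ⟨g, rfl⟩, h4, h4.orderOf.symm.trans h3⟩

/-- **The big orbit.** -/
theorem exists_orb (U : Subgroup (Perm α)) {p : ℕ} (hp : p.Prime) (hd : p ∣ Nat.card U) (hc : Fintype.card α < 2 * p) :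
    ∃ (Γ : Finset α) (h : ∀ g ∈ U, ∀ x ∈ Γ, g x ∈ Γ), p ≤ Γ.card ∧ IsPreprimitive (res h).range {x // x ∈ Γ} ∧
      ∀ l : ℕ, l.Prime → l ∣ Nat.card U → Fintype.card α < l + Γ.card → Γ.card < 2 * l → l + 3 ≤ Γ.card →
        alternatingGroup {x // x ∈ Γ} ≤ (res h).range := by
  classical
  have : Fact p.Prime := ⟨hp⟩
  obtain ⟨g, hg⟩ := exists_prime_orderOf_dvd_card' p hd
  rw [← Subgroup.orderOf_coe] at hg
  have h1 := isCycle_of_prime_order' (σ := (g : Perm α)) (hg ▸ hp) (hg ▸ hc)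
  obtain ⟨x, -, hx⟩ := id h1
  let Γ : Finset α := Finset.univ.filter fun y => ∃ u ∈ U, u x = y
  have hΓ : ∀ y, y ∈ Γ ↔ ∃ u ∈ U, u x = y := fun y => Finset.mem_filter_univ y
  have h : ∀ g ∈ U, ∀ x ∈ Γ, g x ∈ Γ := fun u hu y hy => by
    obtain ⟨v, hv, rfl⟩ := (hΓ y).1 hy
    exact (hΓ _).2 ⟨u * v, U.mul_mem hu hv, rfl⟩
  have h2 : p ≤ Γ.card := by
    rw [← hg, h1.orderOf]
    refine Finset.card_le_card fun y hy => ?_
    obtain ⟨i, hi⟩ := hx (mem_support.1 hy)
    exact (hΓ y).2 ⟨_, U.zpow_mem g.2 i, hi⟩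
  have h3 : IsPretransitive (res h).range {x // x ∈ Γ} := ⟨fun y z => by
    obtain ⟨u, hu, e⟩ := (hΓ y).1 y.2
    obtain ⟨v, hv, e'⟩ := (hΓ z).1 z.2
    refine ⟨⟨_, ⟨v * u⁻¹, U.mul_mem hv (U.inv_mem hu)⟩, rfl⟩, Subtype.ext ?_⟩
    show v (u⁻¹ y) = z
    rw [← e', ← e]
    exact congrArg v (u.symm_apply_apply x)⟩
  have h4 := Finset.card_le_univ Γ
  obtain ⟨y, hy, h5, h6⟩ := exists_cycle h hp hd (by omega) (by omega)
  have h7 := H529.TwoCycles.isPreprimitive_of_cycle hp h5 h6 (by rw [Fintype.card_coe]; omega) h3 hy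
  refine ⟨Γ, h, h2, h7, fun l hl k1 k2 k3 k4 => ?_⟩
  obtain ⟨z, hz, k5, k6⟩ := exists_cycle h hl k1 k2 k3
  have := hl.two_le
  exact S0713.result _ h7 hl (by rw [Fintype.card_coe]; omega) (by rwa [Fintype.card_coe]) k5 k6 hz

theorem fact_dvd {U : Subgroup (Perm α)} {Γ : Finset α} {h : ∀ g ∈ U, ∀ x ∈ Γ, g x ∈ Γ} (h2 : 2 ≤ Γ.card)
    (hA : alternatingGroup {x // x ∈ Γ} ≤ (res h).range) : Γ.card.factorial ∣ 2 * Nat.card U := by
  have : Nontrivial {x // x ∈ Γ} := Fintype.one_lt_card_iff_nontrivial.1 (by rwa [Fintype.card_coe])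
  have h1 := two_mul_nat_card_alternatingGroup (α := {x // x ∈ Γ})
  rw [Nat.card_perm, Nat.card_eq_fintype_card (α := {x // x ∈ Γ}), Fintype.card_coe] at h1
  rw [← h1]
  exact Nat.mul_dvd_mul_left 2 ((Subgroup.card_dvd_of_le hA).trans (Subgroup.card_range_dvd _))

/-- the arithmetic of one orbit length -/
def Kill (c I a : ℕ) : Prop :=
  ¬ c.choose a ∣ I ∨ ∃ l ∈ [5, 7, 11, 13], l ∣ c.factorial / I ∧ c < l + a ∧ a < 2 * l ∧ l + 3 ≤ a ∧
    ¬ a.factorial ∣ 2 * (c.factorial / I)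

instance (c I a : ℕ) : Decidable (Kill c I a) := inferInstanceAs (Decidable (_ ∨ _))

theorem exists_len {c p : ℕ} (U : Subgroup (Perm (Fin c))) (hp : p.Prime) (hd : p ∣ c.factorial / U.index)
    (hc : c < 2 * p) : ∃ Γ : Finset (Fin c), (∀ g ∈ U, ∀ x ∈ Γ, g x ∈ Γ) ∧ p ≤ Γ.card ∧ Γ.card < c + 1 ∧
      ¬ Kill c U.index Γ.card := by
  have h1 : c.factorial / U.index = Nat.card U := by
    have h2 := U.index_mul_card
    rw [Nat.card_perm, Nat.card_eq_fintype_card (α := Fin c), Fintype.card_fin] at h2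
    rw [← h2, Nat.mul_div_cancel_left _ (Nat.pos_of_ne_zero Subgroup.index_ne_zero_of_finite)]
  obtain ⟨Γ, h, h2, -, h3⟩ := exists_orb U hp (h1 ▸ hd) (by rwa [Fintype.card_fin])
  refine ⟨Γ, h, h2, Nat.lt_succ_of_le ((Finset.card_le_univ Γ).trans (Fintype.card_fin c).le), ?_⟩
  rintro (k | ⟨l, hl, k1, k2, k3, k4, k5⟩)
  · exact k (H748.JordanTwoPower.choose_dvd_index Γ h)
  · rw [h1] at k1 k5
    exact k5 (fact_dvd (by omega) (h3 l ((by decide : ∀ l ∈ [5, 7, 11, 13], l.Prime) l hl) k1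
      (by rwa [Fintype.card_fin]) k3 k4))

theorem ne_of {c p I : ℕ} (hp : p.Prime) (hd : p ∣ c.factorial / I) (hc : c < 2 * p)
    (h : ∀ a < c + 1, p ≤ a → Kill c I a) (U : Subgroup (Perm (Fin c))) : U.index ≠ I := by
  rintro rfl
  obtain ⟨Γ, -, h1, h2, h3⟩ := exists_len U hp hd hc
  exact h3 (h _ h2 h1)

theorem noIdx_of {c N : ℕ} (p : ℕ) (hp : p.Prime) (hc : c < 2 * p)
    (h : ∀ I ∈ [N, 2 * N], p ∣ c.factorial / I ∧ ∀ a < c + 1, p ≤ a → Kill c I a) : NoIdx c N := fun U =>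
  ⟨ne_of hp (h _ (by simp)).1 hc (h _ (by simp)).2 U, ne_of hp (h _ (by simp)).1 hc (h _ (by simp)).2 U⟩

end Cfsg.Agent.SM.Om.Al

namespace Cfsg.Agent.SM.Om

theorem boxAlt : BoxAlt :=
  ⟨Al.noIdx_of 7 (by norm_num) (by norm_num) (by decide +kernel), Al.noIdx_of 7 (by norm_num) (by norm_num) (by decide +kernel),
    Al.noIdx_of 7 (by norm_num) (by norm_num) (by decide +kernel),
    Al.noIdx_of 17 (by norm_num) (by norm_num) (by decide +kernel),
    Al.noIdx_of 13 (by norm_num) (by norm_num) (by decide +kernel),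
    Al.noIdx_of 17 (by norm_num) (by norm_num) (by decide +kernel),
    Al.noIdx_of 13 (by norm_num) (by norm_num) (by decide +kernel)⟩

end Cfsg.Agent.SM.Om
end

-- part: SM/Om/Lin
section
prune_inst 0x4000200000000018050250000060020000000043000080c002000e818c0100000661b2300010009084c460380048110000004000000000000400011800a08082420032000000240007010800000000000000000000000000000000000000000000000
set_option linter.all false
open scoped Cfsg.Agent.FastGrp

/-!
# SM (S3570), socle `PΩ⁻_{2m}(q)`: common tools (helper87)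
-/

set_option autoImplicit false
set_option linter.unusedSectionVars false

namespace Cfsg.Agent.SM.Om

open Module QuadraticMap Cfsg Cfsg.Geo Cfsg.Agent.LieClassical.OrthCore Cfsg.Agent.LieClassical.OrthTrans
  Cfsg.Agent.H955 Cfsg.Agent.H884.El Cfsg.Agent.H954.TSing
open Cfsg.Agent.H951 (fx cm Inv)
open Cfsg.Agent.H278.Cov (Red Ext)
open Cfsg.Agent.H100.Ppd (Nat')
open Cfsg.Agent.LieClassical.OrthFinite (glEquiv glEquiv_apply)
open scoped MatrixGroups Matrix

variable {n : ℕ} {F : Type} [Field F] [Fintype F] {Q : QuadraticForm F (Fin n → F)} {m : ℕ}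
  {X Y : Subgroup (GL (Fin n) F)} {W : Submodule F (Fin n → F)} {g : GL (Fin n) F}

/-! ### dictionary -/

theorem og_le : Og Q ≤ isometryGroup F (⇑Q) := Subgroup.map_subtype_le _

theorem mem_St : g ∈ St W ↔ ∀ w ∈ W, (g : Matrix (Fin n) (Fin n) F) *ᵥ w ∈ W := H884.OmegaGL.mem_subspaceStabilizer

theorem Q_mv (hg : g ∈ Og Q) (v : Fin n → F) : Q ((g : Matrix (Fin n) (Fin n) F) *ᵥ v) = Q v := lin_iso og_le hg v

theorem polar_mv (hg : g ∈ Og Q) (u v : Fin n → F) :
    polar Q ((g : Matrix (Fin n) (Fin n) F) *ᵥ u) ((g : Matrix (Fin n) (Fin n) F) *ᵥ v) = polar Q u v := by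
  unfold polar
  rw [← Matrix.mulVec_add, Q_mv hg, Q_mv hg, Q_mv hg]

theorem mul_mv (g h : GL (Fin n) F) (v : Fin n → F) : ((g * h : GL (Fin n) F) : Matrix (Fin n) (Fin n) F) *ᵥ v =
    (g : Matrix (Fin n) (Fin n) F) *ᵥ ((h : Matrix (Fin n) (Fin n) F) *ᵥ v) := by
  rw [Units.val_mul, Matrix.mulVec_mulVec]

theorem inv_mv (g : GL (Fin n) F) (v : Fin n → F) :
    ((g⁻¹ : GL (Fin n) F) : Matrix (Fin n) (Fin n) F) *ᵥ ((g : Matrix (Fin n) (Fin n) F) *ᵥ v) = v := by
  rw [← mul_mv, inv_mul_cancel, Units.val_one, Matrix.one_mulVec]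

theorem mv_inv (g : GL (Fin n) F) (v : Fin n → F) :
    (g : Matrix (Fin n) (Fin n) F) *ᵥ (((g⁻¹ : GL (Fin n) F) : Matrix (Fin n) (Fin n) F) *ᵥ v) = v := by
  rw [← mul_mv, mul_inv_cancel, Units.val_one, Matrix.one_mulVec]

theorem mv_ne (g : GL (Fin n) F) {v : Fin n → F} (hv : v ≠ 0) : (g : Matrix (Fin n) (Fin n) F) *ᵥ v ≠ 0 := fun h =>
  hv (by rw [← inv_mv g v, h, Matrix.mulVec_zero])

theorem mem_St_pt {v : Fin n → F} : g ∈ St (F ∙ v) ↔ ∃ c : F, (g : Matrix (Fin n) (Fin n) F) *ᵥ v = c • v := by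
  rw [mem_St]
  constructor
  · intro h
    obtain ⟨c, hc⟩ := Submodule.mem_span_singleton.1 (h v (Submodule.mem_span_singleton_self v))
    exact ⟨c, hc.symm⟩
  · rintro ⟨c, hc⟩ w hw
    obtain ⟨d, rfl⟩ := Submodule.mem_span_singleton.1 hw
    rw [Matrix.mulVec_smul, hc]
    exact Submodule.smul_mem _ _ (Submodule.smul_mem _ _ (Submodule.mem_span_singleton_self v))

theorem finrank_V' : finrank F (Fin n → F) = n := by rw [Module.finrank_fintype_fun_eq_card, Fintype.card_fin]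

namespace Spc

variable (h : Spc Q m)
include h

theorem nd : Nondeg Q := h.good.nondeg

theorem nd' : IsNondegenerateQuadraticForm (⇑Q) := H925.isND_of_nondeg h.nd

theorem minus' : ¬ IsPlusTypeOn (⇑Q) ⊤ := by
  rintro ⟨U, -, h1, h2⟩
  exact h.minus ⟨U, h1, by rw [h2, finrank_top]⟩

theorem eight : 8 ≤ n := by have := h.dim; have := h.four; omega

theorem finrank_V : finrank F (Fin n → F) = 2 * m := by rw [finrank_V', h.dim]

theorem mem_og : g ∈ Og Q ↔ glEquiv (Fin n) F g ∈ E Q := by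
  have h1 := H884.OmegaGL.mem_omegaGL (⇑Q) h.nd' (by rw [Fintype.card_fin]; have := h.eight; omega) g
  have h2 : H884.OmegaGL.bundle (⇑Q) h.nd' = Q := QuadraticMap.ext fun _ => rfl
  rwa [h2] at h1

/-- elements of `E Q` as matrices -/
theorem exists_og {e : (Fin n → F) ≃ₗ[F] (Fin n → F)} (he : e ∈ E Q) :
    ∃ g ∈ Og Q, ∀ v, (g : Matrix (Fin n) (Fin n) F) *ᵥ v = e v :=
  ⟨(glEquiv (Fin n) F).symm e, h.mem_og.2 (by rwa [MulEquiv.apply_symm_apply]), fun v => by
    rw [← glEquiv_apply, MulEquiv.apply_symm_apply]⟩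

theorem trans_norm {v v' : Fin n → F} (hv : v ≠ 0) (hv' : v' ≠ 0) (hq : Q v = Q v') :
    ∃ g ∈ Og Q, (g : Matrix (Fin n) (Fin n) F) *ᵥ v = v' := by
  obtain ⟨e, he, h1⟩ := h.good.trans_norm hv hv' hq
  obtain ⟨g, hg, h2⟩ := h.exists_og he
  exact ⟨g, hg, by rw [h2, h1]⟩

theorem trans_hyp {e f e' f' : Fin n → F} (h1 : Hyp Q e f) (h2 : Hyp Q e' f') :
    ∃ g ∈ Og Q, (g : Matrix (Fin n) (Fin n) F) *ᵥ e = e' ∧ (g : Matrix (Fin n) (Fin n) F) *ᵥ f = f' := by
  obtain ⟨a, ha, h3, h4⟩ := h.good.trans_hyp h1 h2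
  obtain ⟨g, hg, h5⟩ := h.exists_og ha
  exact ⟨g, hg, by rw [h5, h3], by rw [h5, h4]⟩

/-- `Ω` is irreducible -/
theorem irr (h0 : W ≠ ⊥) (h1 : W ≠ ⊤) : ¬ Og Q ≤ St W := by
  intro hle
  obtain ⟨s, hsW, hs⟩ := Submodule.exists_mem_ne_zero_of_ne_bot h0
  have h2 : perp Q W ≠ ⊥ := fun h3 => h1 (by rw [← perp_perp h.nd W, h3, perp_bot])
  obtain ⟨v, hvW, hv⟩ := Submodule.exists_mem_ne_zero_of_ne_bot h2
  obtain ⟨e, he, h3⟩ := H449.Reg.exists_not_perp h.good hv hs
  obtain ⟨g, hg, h4⟩ := h.exists_og he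
  exact h3 (hvW _ (by rw [← h4]; exact mem_St.1 (hle hg) s hsW))

end Spc

/-- a Siegel element as a matrix -/
noncomputable def sg (Q : QuadraticForm F (Fin n → F)) (u w : Fin n → F) (hu : Q u = 0) (hw : polar Q u w = 0) :
    GL (Fin n) F := (glEquiv (Fin n) F).symm (siegel Q u w hu hw)

theorem sg_apply {u w : Fin n → F} (hu : Q u = 0) (hw : polar Q u w = 0) (v : Fin n → F) :
    (sg Q u w hu hw : Matrix (Fin n) (Fin n) F) *ᵥ v = v + polar Q u v • w - polar Q w v • u - (Q w * polar Q u v) • u := by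
  rw [← glEquiv_apply, sg, MulEquiv.apply_symm_apply, siegel_apply]

theorem Spc.sg_mem (h : Spc Q m) {u w : Fin n → F} (hu : Q u = 0) (hw : polar Q u w = 0) : sg Q u w hu hw ∈ Og Q :=
  h.mem_og.2 (by rw [sg, MulEquiv.apply_symm_apply]; exact siegel_mem_E hu hw)

theorem sg_mul {u w w' : Fin n → F} (hu : Q u = 0) (hw : polar Q u w = 0) (hw' : polar Q u w' = 0)
    (h : polar Q u (w + w') = 0) : sg Q u w hu hw * sg Q u w' hu hw' = sg Q u (w + w') hu h := by
  rw [sg, sg, sg, ← map_mul, siegel_mul]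

theorem gl_ext {g h : GL (Fin n) F}
    (e : ∀ v, (g : Matrix (Fin n) (Fin n) F) *ᵥ v = (h : Matrix (Fin n) (Fin n) F) *ᵥ v) : g = h :=
  lin_injective (LinearMap.ext e)

theorem sg_conj (hg : g ∈ Og Q) {u w : Fin n → F} (hu : Q u = 0) (hw : polar Q u w = 0)
    (hu' : Q ((g : Matrix (Fin n) (Fin n) F) *ᵥ u) = 0)
    (hw' : polar Q ((g : Matrix (Fin n) (Fin n) F) *ᵥ u) ((g : Matrix (Fin n) (Fin n) F) *ᵥ w) = 0) :
    g * sg Q u w hu hw * g⁻¹ = sg Q _ _ hu' hw' := by
  refine gl_ext fun v => ?_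
  obtain ⟨y, rfl⟩ : ∃ y, v = (g : Matrix (Fin n) (Fin n) F) *ᵥ y := ⟨_, (mv_inv g v).symm⟩
  rw [mul_mv, mul_mv, inv_mv, sg_apply, sg_apply, polar_mv hg, polar_mv hg, Q_mv hg, Matrix.mulVec_sub, Matrix.mulVec_sub,
    Matrix.mulVec_add, Matrix.mulVec_smul, Matrix.mulVec_smul, Matrix.mulVec_smul]

/-! ### factorisations -/

theorem relIndex_of_fac {G : Type*} [Group G] {A X Y S : Subgroup G} (hX : X ≤ A)
    (hf : ∀ g ∈ A, ∃ x ∈ X, ∃ y ∈ Y, g = x * y) (hY : Y ≤ S) : S.relIndex X = S.relIndex A := by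
  unfold Subgroup.relIndex Subgroup.index
  refine Nat.card_congr (Equiv.ofBijective (Quotient.map' (fun x : X => (⟨x.1, hX x.2⟩ : A)) ?_) ⟨?_, ?_⟩)
  · intro a b hab
    rw [QuotientGroup.leftRel_apply] at hab ⊢
    exact hab
  · intro a b
    induction a using Quotient.inductionOn' with | h a => ?_
    induction b using Quotient.inductionOn' with | h b => ?_
    intro hab
    have h1 := Quotient.exact' hab
    apply Quotient.sound'
    rw [QuotientGroup.leftRel_apply] at h1 ⊢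
    exact h1
  · intro a
    induction a using Quotient.inductionOn' with | h a => ?_
    obtain ⟨x, hx, y, hy, e⟩ := hf a a.2
    refine ⟨Quotient.mk'' ⟨x, hx⟩, Quotient.sound' ?_⟩
    rw [QuotientGroup.leftRel_apply]
    change x⁻¹ * (a : G) ∈ S
    rw [e, inv_mul_cancel_left]
    exact hY hy

/-- the order formula -/
theorem card_of_fac {G : Type*} [Group G] {A X Y : Subgroup G} (hX : X ≤ A) (hY : Y ≤ A)
    (hf : ∀ g ∈ A, ∃ x ∈ X, ∃ y ∈ Y, g = x * y) : Nat.card A * Nat.card ↥(X ⊓ Y) = Nat.card X * Nat.card Y := by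
  have h1 := relIndex_of_fac hX hf (le_refl Y)
  have h2 : Nat.card ↥(Y.subgroupOf A) * Y.relIndex A = Nat.card A := Subgroup.card_mul_index _
  have h3 : Nat.card ↥(Y.subgroupOf X) * Y.relIndex X = Nat.card X := Subgroup.card_mul_index _
  have h4 : Nat.card ↥(Y.subgroupOf A) = Nat.card Y := Nat.card_congr (Subgroup.subgroupOfEquivOfLe hY).toEquiv
  have h5 : Nat.card ↥(Y.subgroupOf X) = Nat.card ↥(X ⊓ Y) := by
    rw [← Subgroup.inf_subgroupOf_left]
    exact Nat.card_congr (Subgroup.subgroupOfEquivOfLe inf_le_left).toEquiv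
  rw [← h2, ← h3, h4, h5, h1]
  ring

namespace Pr

variable (h : Pr Q m X Y)
include h

theorem isoX : X ≤ isometryGroup F (⇑Q) := h.leX.trans og_le

theorem isoY : Y ≤ isometryGroup F (⇑Q) := h.leY.trans og_le

theorem relIndex {S : Subgroup (GL (Fin n) F)} (hY : Y ≤ S) : S.relIndex X = S.relIndex (Og Q) :=
  relIndex_of_fac h.leX h.fac hY

theorem relIndex_dvd {S : Subgroup (GL (Fin n) F)} (hY : Y ≤ S) : S.relIndex (Og Q) ∣ Nat.card X := by
  rw [← h.relIndex hY]
  exact Subgroup.index_dvd_card _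

theorem card : Nat.card (Og Q) * Nat.card ↥(X ⊓ Y) = Nat.card X * Nat.card Y := card_of_fac h.leX h.leY h.fac

theorem card_dvd : Nat.card (Og Q) ∣ Nat.card X * Nat.card Y := ⟨_, h.card.symm⟩

theorem dvd {r : ℕ} (hr : r.Prime) (hd : r ∣ Nat.card (Og Q)) : r ∣ Nat.card X ∨ r ∣ Nat.card Y :=
  hr.dvd_mul.1 (hd.trans h.card_dvd)

/-- `X` is transitive on the images of `W` -/
theorem move (hY : Y ≤ St W) (hg : g ∈ Og Q) : ∃ x ∈ X, x⁻¹ * g ∈ St W := by
  obtain ⟨x, hx, y, hy, e⟩ := h.fac g hg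
  exact ⟨x, hx, by rw [e, inv_mul_cancel_left]; exact hY hy⟩

/-- points -/
theorem move_pt {v v' : Fin n → F} (hY : Y ≤ St (F ∙ v)) (hv : v ≠ 0) (hv' : v' ≠ 0) (hq : Q v = Q v') :
    ∃ x ∈ X, ∃ c : F, c ≠ 0 ∧ v' = c • (x : Matrix (Fin n) (Fin n) F) *ᵥ v := by
  obtain ⟨g, hg, h1⟩ := h.toSpc.trans_norm hv hv' hq
  obtain ⟨x, hx, h2⟩ := h.move hY hg
  obtain ⟨c, hc⟩ := mem_St_pt.1 h2
  have h3 : v' = c • (x : Matrix (Fin n) (Fin n) F) *ᵥ v := by
    rw [← Matrix.mulVec_smul, ← hc, mul_mv, mv_inv, h1]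
  exact ⟨x, hx, c, fun h0 => hv' (by rw [h3, h0, zero_smul]), h3⟩

end Pr

/-! ### primitive primes -/

variable {r : ℕ}

/-- an element of order `r_n` acts irreducibly -/
theorem not_red (h : Spc Q m) (hX : X ≤ Og Q) (hr : PP (Nat.card F) n r) (hd : r ∣ Nat.card X) : ¬ Red X := by
  rintro ⟨W, hW0, hW1, hW⟩
  have h8 := h.eight
  obtain ⟨g, hg, hiso, hgr, hg1⟩ := exists_elt (Q := Q) (hX.trans og_le) hr (by omega) hd
  obtain ⟨-, hcm, hor, -⟩ := H449.Reg.elt_data hr (by omega) (by rw [Fintype.card_fin]; omega) hiso.pow (lin_ne_one hg1)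
  have hadd := hiso.finrank_add
  rw [finrank_V'] at hadd
  rcases hor W (inv_of_mem (hW hg)) with h1 | h1
  · have h2 := Submodule.finrank_mono h1
    exact hW0 (Submodule.finrank_eq_zero.1 (by omega))
  · have h2 := Submodule.finrank_mono h1
    refine hW1 (Submodule.eq_top_of_finrank_eq (le_antisymm (Submodule.finrank_le W) ?_))
    rw [finrank_V']
    omega

theorem irr_of_not_red (h : ¬ Red X) : ActsIrreducibly (matrixSet X) := by
  intro W hW
  by_contra hc
  push Not at hc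
  refine h ⟨W, hc.1, hc.2, fun g hg => mem_St.2 fun w hw => ?_⟩
  exact hW _ ⟨g, hg, rfl⟩ ⟨w, hw, rfl⟩

/-- a non-degenerate plane of plus type is spanned by a hyperbolic pair -/
theorem hyp_of_plus {D : Submodule F (Fin n → F)} (h2 : finrank F D = 2) (hnd : Nondeg (res Q D)) (hp : IsPlus (res Q D)) :
    ∃ e f, Hyp Q e f ∧ D = Submodule.span F {e, f} := by
  obtain ⟨U, hU, hUd⟩ := hp
  have hU0 : U ≠ ⊥ := by
    rintro rfl
    rw [finrank_bot, h2] at hUd
    omega
  obtain ⟨x, hxU, hx0⟩ := Submodule.exists_mem_ne_zero_of_ne_bot hU0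
  obtain ⟨y, hy⟩ := exists_hyp hnd (hU x hxU) hx0
  have hy' : Hyp Q (x : Fin n → F) y := ⟨hy.left, hy.right, by rw [← hy.pair]; rfl⟩
  refine ⟨x, y, hy', (Submodule.eq_of_le_of_finrank_eq ?_ ?_).symm⟩
  · rw [Submodule.span_le]
    rintro z (rfl | rfl)
    · exact x.2
    · exact y.2
  · have hli : LinearIndependent F ![(x : Fin n → F), y] := by
      rw [LinearIndependent.pair_iff]
      intro s t hst
      have h3 := congrArg (fun z => polar Q z (y : Fin n → F)) hst
      have h4 := congrArg (fun z => polar Q z (x : Fin n → F)) hst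
      simp only [polar_add_left, polar_smul_left, hy'.pair, hy'.pair', hy'.polar_left, hy'.polar_right, polar_zero_left,
        smul_eq_mul, mul_one, mul_zero, add_zero, zero_add] at h3 h4
      exact ⟨h3, h4⟩
    have h5 := finrank_span_eq_card hli
    rw [Matrix.range_cons, Matrix.range_cons, Matrix.range_empty, Set.union_empty, Set.singleton_union] at h5
    rw [h5, h2, Fintype.card_fin]

/-- a reducible group containing an element with a large block has a small invariant subspace -/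
theorem small_of_red (h : Spc Q m) (hY : Y ≤ Og Q) {k : ℕ} (hr : PP (Nat.card F) k r) (hk : m < k) {g : GL (Fin n) F}
    (hg : g ∈ Y) (hgr : g ^ r = 1) (hg1 : g ≠ 1) (hred : Red Y) :
    finrank F (fx (lin g)) + k = n ∧ (∀ W, Y ≤ St W → finrank F W < k → W ≤ fx (lin g)) ∧
      ∃ W, W ≠ ⊥ ∧ W ≤ fx (lin g) ∧ Y ≤ St W := by
  have h4 := h.four
  have hn := h.dim
  have hlin : (lin g) ^ r = 1 := by rw [← H251.GeoCard.toLin_pow, hgr]; exact lin_one
  obtain ⟨-, hcm, hor, -⟩ := H449.Reg.elt_data hr (by omega) (by rw [Fintype.card_fin]; omega) hlin (lin_ne_one hg1)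
  have hiso : Iso Q (lin g) r := Iso.mk' hr (by omega) hlin (lin_iso (hY.trans og_le) hg)
  have hadd := hiso.finrank_add
  rw [finrank_V'] at hadd
  have key : ∀ W : Submodule F (Fin n → F), Y ≤ St W → finrank F W < k → W ≤ fx (lin g) := by
    intro W hW hk
    rcases hor W (inv_of_mem (hW hg)) with h1 | h1
    · exact h1
    · have := Submodule.finrank_mono h1
      omega
  refine ⟨by omega, key, ?_⟩
  obtain ⟨W, hW0, hW1, hW⟩ := hred
  rcases hor W (inv_of_mem (hW hg)) with h1 | h1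
  · exact ⟨W, hW0, h1, hW⟩
  · have h2 := H449.Reg.stab_perp (hY.trans og_le) hW
    refine ⟨perp Q W, fun h0 => hW1 (by rw [← perp_perp h.nd W, h0, perp_bot]), key _ h2 ?_, h2⟩
    have h3 := finrank_perp h.nd W
    rw [finrank_V'] at h3
    have := Submodule.finrank_mono h1
    omega

/-- **a reducible factor with a prime `r_{n-2}`** -/
theorem sm_of_red (h : Spc Q m) (hY : Y ≤ Og Q) (hr : PP (Nat.card F) (2 * m - 2) r) (hd : r ∣ Nat.card Y) (hred : Red Y) :
    Sm Q Y := by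
  have h4 := h.four
  have hn := h.dim
  obtain ⟨g, hg, hiso, hgr, hg1⟩ := exists_elt (Q := Q) (hY.trans og_le) hr (by omega) hd
  obtain ⟨h1, h2, W, hW0, hW1, hW⟩ := small_of_red h hY hr (by omega) hg hgr hg1 hred
  have hfx : finrank F (fx (lin g)) = 2 := by omega
  refine ⟨fx (lin g), hfx, fun W hW hk => h2 W hW (by omega), ⟨W, hW0, hfx ▸ Submodule.finrank_mono hW1, hW⟩, fun _ => ?_⟩
  have hev : Even (2 * m - 2) := ⟨m - 1, by omega⟩
  obtain ⟨hcm, -⟩ := hiso.even_case h.nd (lin_ne_one hg1) hr hev (by rw [h.finrank_V]; omega)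
  have := Fact.mk hiso.prime
  refine hyp_of_plus hfx (nondeg_fx h.nd hiso.iso hiso.ne0 hiso.pow) ?_
  rw [isPlus_fx_iff hiso.two_lt h.nd (by rw [h.finrank_V]; exact even_two_mul m) hiso.iso hiso.ne0 hiso.pow (ord_eq hr) hev
    (A := 1) (by rw [hcm, mul_one])]
  exact ⟨fun h5 => absurd h5 h.minus, fun h5 => absurd h5 (by decide)⟩

theorem pt_of_finrank (h0 : W ≠ ⊥) (h1 : finrank F W ≤ 1) : ∃ v, v ≠ 0 ∧ W = F ∙ v := by
  obtain ⟨v, hv, hv0⟩ := Submodule.exists_mem_ne_zero_of_ne_bot h0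
  refine ⟨v, hv0, (Submodule.eq_of_le_of_finrank_le ((Submodule.span_singleton_le_iff_mem v W).2 hv) ?_).symm⟩
  rw [finrank_span_singleton hv0]
  exact h1

theorem Q_pair {e f : Fin n → F} (h : Hyp Q e f) (a b : F) : Q (a • e + b • f) = a * b := by
  rw [Q_add, QuadraticMap.map_smul, QuadraticMap.map_smul, h.left, h.right, polar_smul_left, polar_smul_right, h.pair]
  simp

/-- `q ≤ 3`: the vectors of norm one of a hyperbolic plane -/
theorem norm_one {e f z : Fin n → F} (hq : Fintype.card F ≤ 3) (h : Hyp Q e f) (hz : z ∈ Submodule.span F {e, f})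
    (h1 : Q z = 1) : ∃ c : F, z = c • (e + f) := by
  obtain ⟨a, b, rfl⟩ := Submodule.mem_span_pair.1 hz
  rw [Q_pair h] at h1
  have ha : a ≠ 0 := by rintro rfl; simp at h1
  have h2 : a * a = 1 := by
    have h3 := FiniteField.pow_card_sub_one_eq_one a ha
    have h4 : 1 < Fintype.card F := Fintype.one_lt_card
    rcases (show Fintype.card F - 1 = 1 ∨ Fintype.card F - 1 = 2 by omega) with h5 | h5
    · rw [h5, pow_one] at h3; rw [h3, mul_one]
    · rw [h5, pow_two] at h3; exact h3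
  have h3 : b = a := mul_left_cancel₀ ha (h1.trans h2.symm)
  exact ⟨a, by rw [h3, smul_add]⟩

theorem Q_one {e f : Fin n → F} (h : Hyp Q e f) : Q (e + f) = 1 := by
  have := Q_pair h 1 1
  rwa [one_smul, one_smul, mul_one] at this

theorem St_one {e f : Fin n → F} (hq : Fintype.card F ≤ 3) (h : Hyp Q e f) (hY : Y ≤ Og Q)
    (hS : Y ≤ St (Submodule.span F {e, f})) : Y ≤ St (F ∙ (e + f)) := fun g hg =>
  mem_St_pt.2 (norm_one hq h (mem_St.1 (hS hg) _ (Submodule.add_mem _ (Submodule.subset_span (by simp))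
    (Submodule.subset_span (by simp)))) (by rw [Q_mv (hY hg), Q_one h]))

/-- `q ≤ 3`: a fixed point -/
theorem Sm.pt (hq : Fintype.card F ≤ 3) (hY : Y ≤ Og Q) (h : Sm Q Y) : ∃ v, v ≠ 0 ∧ Y ≤ St (F ∙ v) := by
  obtain ⟨D, hD, h1, ⟨W, hW0, hW2, hW⟩, h2⟩ := h
  by_cases h3 : finrank F W ≤ 1
  · obtain ⟨v, hv, rfl⟩ := pt_of_finrank hW0 h3
    exact ⟨v, hv, hW⟩
  · have h4 : W = D := Submodule.eq_of_le_of_finrank_eq (h1 W hW hW2) (by omega)
    subst h4
    obtain ⟨e, f, hef, rfl⟩ := h2 hW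
    refine ⟨e + f, fun h0 => ?_, St_one hq hef hY hW⟩
    have := Q_one hef
    rw [h0, QuadraticMap.map_zero] at this
    exact zero_ne_one this

/-- the classical groups inside `Ω` -/
theorem nat_kill (h : Spc Q m) {P : Subgroup (GL (Fin n) F)} (hP : P ≤ Og Q) (hN : Nat' P) : Og Q ≤ P := by
  have h8 := h.eight
  have hQ := h.nd'
  have hone : Nonempty (Fin n) := ⟨⟨0, by omega⟩⟩
  have hc : Fintype.card (Fin n) = n := Fintype.card_fin n
  have hmem : ∀ x ∈ P, ∀ v, Q ((x : Matrix (Fin n) (Fin n) F) *ᵥ v) = Q v := fun x hx => Q_mv (hP hx)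
  rcases hN with h1 | ⟨f', hf', h1⟩ | ⟨τ, f', hf', h1⟩ | ⟨Q', hQ', h1⟩
  · exfalso
    refine H905.not_sl_le_quadSimilarityGroup (by omega) hQ fun x hx => ?_
    exact ⟨1, fun v => by rw [Units.val_one, one_mul]; exact hmem x (h1 hx) v⟩
  · exact (H558.Cov.symp_quad_false (by omega) hQ hf' fun x hx => hmem x (h1 x hx)).elim
  · exact (H558.Cov.unit_quad_false (by omega) hQ hf' fun x hx hd => hmem x (h1 x hx hd)).elim
  · have h2 : FixesQuadForm (matrixSet (omegaGL Q')) (⇑Q) := by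
      rintro _ ⟨x, hx, rfl⟩ v
      exact hmem x (h1 hx) v
    obtain ⟨c, hc, h3⟩ := H925.Nat.quad_prop (H925.Nat.omegaGL_absIrr hQ' (by omega)) hQ' hQ (H925.Nat.omegaGL_fixes Q') h2
    have h4 : omegaGL (⇑Q) = omegaGL Q' := H925.Nat.omegaGL_smul hc h3
    change omegaGL (⇑Q) ≤ P
    rw [h4]
    exact h1

/-! ### fields -/

variable {s : ℕ} {K : Subalgebra F (Matrix (Fin n) (Fin n) F)}

/-- two parities: an irreducible group which normalises a quadratic field -/
theorem fld_two (h : Spc Q m) (hX : X ≤ Og Q) (hirr : ¬ Red X) {j k r t : ℕ} (hr : PP (Nat.card F) j r)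
    (ht : PP (Nat.card F) k t) (hj : Even j) (hk : Even k) (hmj : m < j) (hmk : m < k) (hpar : Odd (j / 2 + k / 2))
    (hrX : r ∣ Nat.card X) (htX : t ∣ Nat.card X) (hK : IsFieldSubalgebra 2 K) (hXK : X ≤ subalgebraNormalizer K) : False := by
  have h4 := h.four
  have hn := h.dim
  refine H449.Reg.no_field2_gen (B := polarBilin Q) (irr_of_not_red hirr) ?_ (fun g hg u w => polar_mv (hX hg) u w) hr ht hj hk
    (by rw [Fintype.card_fin]; omega) (by rw [Fintype.card_fin]; omega) (by omega) (by omega) hpar hrX htX hK hXK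
  exact ⟨fun x hx => h.nd x hx, fun x hx => h.nd x fun y => by rw [polar_comm]; exact hx y⟩

/-- a prime of odd order `e`, `m < 2 e` -/
theorem fld_odd (h : Spc Q m) (hX : X ≤ Og Q) {e : ℕ} (hr : PP (Nat.card F) e r) (he : Odd e) (he3 : 3 ≤ e) (hme : m < 2 * e)
    (hd : r ∣ Nat.card X) (hs : s.Prime) (hK : IsFieldSubalgebra s K) (hXK : X ≤ subalgebraNormalizer K) : r = s ∨ s ∣ e :=
  H964.Rg.ext_odd h.nd (hX.trans og_le) hr he he3 (by rw [Fintype.card_fin, h.dim]; omega) hd hs hK hXK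

theorem fld_dvd (hn : 0 < n) (hK : IsFieldSubalgebra s K) : s ∣ n := by
  have : Nonempty (Fin n) := ⟨⟨0, hn⟩⟩
  have h1 := H100.Ppd.dvd_card_of_field hK
  rwa [Fintype.card_fin] at h1

/-- a prime of order `k > n / 2` -/
theorem fld_big {k : ℕ} (hr : PP (Nat.card F) k r) (hn : 0 < n) (hk : n < 2 * k) (hd : r ∣ Nat.card X) (hs : s.Prime)
    (hK : IsFieldSubalgebra s K) (hXK : X ≤ subalgebraNormalizer K) : r = s ∨ s ∣ k := by
  have : Nonempty (Fin n) := ⟨⟨0, hn⟩⟩
  exact ext_cases hs hK hXK (by rw [Fintype.card_fin]; exact fld_dvd hn hK) hr (by rwa [Fintype.card_fin]) hd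

/-- non-zero elements of the field are injective -/
theorem fld_inj (hK : IsFieldSubalgebra s K) {y : Matrix (Fin n) (Fin n) F} (hy : y ∈ K) {v : Fin n → F} (hv : v ≠ 0)
    (h0 : y *ᵥ v = 0) : y = 0 := by
  by_contra hne
  obtain ⟨z, hz, h1⟩ := hK.inv y hy hne
  apply hv
  rw [← Matrix.one_mulVec v, ← h1, hK.comm y hy z hz, ← Matrix.mulVec_mulVec, h0, Matrix.mulVec_zero]

/-- an element of the field with an eigenvector is a scalar -/
theorem fld_scalar (hK : IsFieldSubalgebra s K) {y : Matrix (Fin n) (Fin n) F} (hy : y ∈ K) {v : Fin n → F} (hv : v ≠ 0)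
    {c : F} (h0 : y *ᵥ v = c • v) : y = c • (1 : Matrix (Fin n) (Fin n) F) := by
  rw [← sub_eq_zero]
  refine fld_inj hK (K.sub_mem hy (K.smul_mem K.one_mem c)) hv ?_
  rw [Matrix.sub_mulVec, h0, Matrix.smul_mulVec, Matrix.one_mulVec, sub_self]

theorem exists_not_scalar (hs : 2 ≤ s) (hK : IsFieldSubalgebra s K) :
    ∃ y ∈ K, ∀ c : F, y ≠ c • (1 : Matrix (Fin n) (Fin n) F) := by
  by_contra hc
  push Not at hc
  have h1 : Subalgebra.toSubmodule K ≤ F ∙ (1 : Matrix (Fin n) (Fin n) F) := fun y hy => by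
    obtain ⟨c, h2⟩ := hc y hy
    exact Submodule.mem_span_singleton.2 ⟨c, h2.symm⟩
  have h2 := Submodule.finrank_mono h1
  have h3 : finrank F (F ∙ (1 : Matrix (Fin n) (Fin n) F)) ≤ 1 := by
    simpa using finrank_span_le_card (R := F) ({(1 : Matrix (Fin n) (Fin n) F)} : Set _)
  have h4 : finrank F (Subalgebra.toSubmodule K) = s := hK.finrank_eq
  omega

theorem le_kw (K : Subalgebra F (Matrix (Fin n) (Fin n) F)) (W : Submodule F (Fin n → F)) : W ≤ kw K W := fun w hw =>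
  Submodule.subset_span ⟨1, K.one_mem, w, hw, (Matrix.one_mulVec w).symm⟩

theorem mv_mem_kw {y : Matrix (Fin n) (Fin n) F} (hy : y ∈ K) {v : Fin n → F} (hv : v ∈ kw K W) : y *ᵥ v ∈ kw K W := by
  induction hv using Submodule.span_induction with
  | mem x hx =>
    obtain ⟨z, hz, w, hw, rfl⟩ := hx
    exact Submodule.subset_span ⟨y * z, K.mul_mem hy hz, w, hw, by rw [Matrix.mulVec_mulVec]⟩
  | zero => rw [Matrix.mulVec_zero]; exact Submodule.zero_mem _
  | add a b _ _ ha hb => rw [Matrix.mulVec_add]; exact Submodule.add_mem _ ha hb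
  | smul c a _ ha => rw [Matrix.mulVec_smul]; exact Submodule.smul_mem _ _ ha

end Cfsg.Agent.SM.Om

private theorem dce_6c8ff59883e9 : _root_.True := by
  try have : _root_.True := by simp only [_root_.Cfsg.Agent.SM.Om.sg.eq_1]
  exact _root_.True.intro
end

-- part: SM/Om/G1
section
prune_inst 0x4400600000000018001020000020000000020040000000c0010208498040a040000102000010000010800801000000000080400000000a000400000200000080000030000000000006010000000000000000000000000000000000010004000000000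
set_option linter.all false
open scoped Cfsg.Agent.FastGrp

/-!
# SM (S3570), socle `PΩ⁻_{2m}(q)`: the boxes `BoxG1p`, `BoxG1h` (helper51)
-/

set_option autoImplicit false
set_option linter.unusedSectionVars false

namespace Cfsg.Agent.SM.Om

open Module QuadraticMap Cfsg Cfsg.Geo Cfsg.Agent.LieClassical.OrthCore Cfsg.Agent.LieClassical.OrthTrans
  Cfsg.Agent.H955
open Cfsg.Agent.H278.Cov (Red)
open scoped MatrixGroups Matrix

namespace G1

variable {n : ℕ} {F : Type} [Field F] [Fintype F] {Q : QuadraticForm F (Fin n → F)} {m s : ℕ}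
  {T B : Subgroup (GL (Fin n) F)} {K : Subalgebra F (Matrix (Fin n) (Fin n) F)}

theorem eq_of_mv (hK : IsFieldSubalgebra s K) {x y : Matrix (Fin n) (Fin n) F} (hx : x ∈ K) (hy : y ∈ K) {v : Fin n → F}
    (hv : v ≠ 0) (h : x *ᵥ v = y *ᵥ v) : x = y := by
  by_contra hne
  exact H879.mulVec_ne_zero hK (K.sub_mem hx hy) (sub_ne_zero.2 hne) hv (by rw [Matrix.sub_mulVec, h, sub_self])

theorem comm_mv {t y : Matrix (Fin n) (Fin n) F} (h : t * y = y * t) (v : Fin n → F) : t *ᵥ (y *ᵥ v) = y *ᵥ (t *ᵥ v) := by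
  rw [Matrix.mulVec_mulVec, Matrix.mulVec_mulVec, h]

theorem mem_kw {y : Matrix (Fin n) (Fin n) F} (hy : y ∈ K) (v : Fin n → F) : y *ᵥ v ∈ kw K (F ∙ v) :=
  Submodule.subset_span ⟨y, hy, v, Submodule.mem_span_singleton_self v, rfl⟩

theorem of_kw {v w : Fin n → F} (hw : w ∈ kw K (F ∙ v)) : ∃ y ∈ K, w = y *ᵥ v := by
  induction hw using Submodule.span_induction with
  | mem x hx =>
    obtain ⟨y, hy, u, hu, rfl⟩ := hx
    obtain ⟨c, rfl⟩ := Submodule.mem_span_singleton.1 hu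
    exact ⟨c • y, K.smul_mem hy c, by rw [Matrix.mulVec_smul, Matrix.smul_mulVec]⟩
  | zero => exact ⟨0, K.zero_mem, (Matrix.zero_mulVec v).symm⟩
  | add x z _ _ hx hz =>
    obtain ⟨y, hy, rfl⟩ := hx
    obtain ⟨y', hy', rfl⟩ := hz
    exact ⟨y + y', K.add_mem hy hy', (Matrix.add_mulVec _ _ _).symm⟩
  | smul c x _ hx =>
    obtain ⟨y, hy, rfl⟩ := hx
    exact ⟨c • y, K.smul_mem hy c, (Matrix.smul_mulVec _ _ _).symm⟩

/-- `(q + 1) #{w ≠ 0 | Q w = a} > q ^ n` -/
theorem count (h : Spc Q m) (a : F) :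
    Nat.card F ^ (2 * m) < (Nat.card F + 1) * Nat.card {w : Fin n → F // w ≠ 0 ∧ Q w = a} := by
  obtain ⟨k, rfl⟩ : ∃ k, m = k + 1 := ⟨m - 1, by have := h.four; omega⟩
  have hq : 1 < Nat.card F := Finite.one_lt_card
  by_cases ha : a = 0
  · subst ha
    have h1 := CS.Ix.card_zero_add h.nd h.finrank_V
    rw [CS.Ix.card_norm_minus' h.nd h.finrank_V h.minus one_ne_zero] at h1
    have h2 : Nat.card {w : Fin n → F // Q w = 0} = Nat.card {w : Fin n → F // w ≠ 0 ∧ Q w = 0} + 1 := by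
      have h3 : {w : Fin n → F | Q w = 0} = insert 0 {w : Fin n → F | w ≠ 0 ∧ Q w = 0} := by
        ext w
        by_cases e : w = 0 <;> simp [e]
      have h4 := Set.ncard_insert_of_notMem (a := (0 : Fin n → F)) (s := {w : Fin n → F | w ≠ 0 ∧ Q w = 0}) (by simp)
      rw [← h3] at h4
      exact h4
    have h5 : Nat.card F ^ 3 ≤ Nat.card F ^ k := Nat.pow_le_pow_right (by omega) (by have := h.four; omega)
    have e1 : Nat.card F ^ (2 * (k + 1)) = Nat.card F ^ k * Nat.card F * (Nat.card F ^ k * Nat.card F) := by ring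
    rw [h2, e1, pow_succ (Nat.card F) k] at h1
    rw [e1]
    generalize Nat.card {w : Fin n → F // w ≠ 0 ∧ Q w = 0} = N at h1
    generalize Nat.card F ^ k = x at h1 h5
    obtain ⟨r, hr⟩ : ∃ r, Nat.card F = r + 2 := ⟨Nat.card F - 2, by omega⟩
    rw [hr] at h1 h5 ⊢
    rw [show r + 2 - 1 = r + 1 from rfl] at h1
    have h6 : N + 1 + (r + 1) * x = (r + 2) * (x * x) := by nlinarith
    have h7 : (r + 2) ^ 3 * x ≤ x * x := Nat.mul_le_mul_right x h5
    have h8 : (r + 2 + 1) * N + (r + 3) + (r + 3) * (r + 1) * x = x * (r + 2) * (x * (r + 2)) + (r + 2) * (x * x) := by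
      have : (r + 3) * (N + 1 + (r + 1) * x) = (r + 3) * ((r + 2) * (x * x)) := by rw [h6]
      linarith
    have h9 : r + 3 < x := lt_of_lt_of_le (by nlinarith [Nat.zero_le (r ^ 3), Nat.zero_le (r ^ 2)]) h5
    nlinarith [Nat.zero_le (r ^ 3 * x), Nat.zero_le (r ^ 2 * x), Nat.zero_le (r * x), Nat.zero_le (r * (x * x))]
  · have h1 := CS.Ix.card_norm_minus h.nd h.finrank_V h.minus ha
    have h2 : Nat.card {w : Fin n → F // w ≠ 0 ∧ Q w = a} = Nat.card {w : Fin n → F // Q w = a} :=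
      Nat.card_congr (Equiv.subtypeEquivRight fun w => and_iff_right_of_imp fun e e0 => ha (by rw [← e, e0, map_zero]))
    have h3 : 0 < Nat.card F ^ (k + 1) := Nat.pow_pos (by omega)
    rw [h2, add_mul, h1]
    omega

theorem sing_plane {e f u : Fin n → F} (h : Hyp Q e f) (hu : u ∈ Submodule.span F {e, f}) (h0 : Q u = 0) :
    ∃ c : F, u = c • e ∨ u = c • f := by
  obtain ⟨a, b, rfl⟩ := Submodule.mem_span_pair.1 hu
  rw [Q_add, QuadraticMap.map_smul, QuadraticMap.map_smul, h.left, h.right, polar_smul_left, polar_smul_right, h.pair] at h0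
  simp only [smul_eq_mul, mul_zero, mul_one, zero_add, mul_eq_zero] at h0
  rcases h0 with rfl | rfl
  · exact ⟨b, Or.inr (by rw [zero_smul, zero_add])⟩
  · exact ⟨a, Or.inl (by rw [zero_smul, add_zero])⟩

end G1

open G1

theorem boxG1p : BoxG1p := by
  intro F _ _ n m s Q T B K v h hs hK hc hr hv hB alt
  rcases alt with h1 | h1
  · have h2 : kw K (F ∙ v) = ⊤ := by
      by_contra hn
      refine hr ⟨_, fun e => hv ?_, hn, h1⟩
      have := mem_kw K.one_mem v
      rwa [e, Matrix.one_mulVec, Submodule.mem_bot] at this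
    let φ : K →ₗ[F] (Fin n → F) :=
      { toFun := fun y => (y : Matrix (Fin n) (Fin n) F) *ᵥ v
        map_add' := fun x y => Matrix.add_mulVec _ _ _
        map_smul' := fun c x => Matrix.smul_mulVec _ _ _ }
    have h3 := (LinearEquiv.ofBijective φ ⟨fun x y e => Subtype.ext (eq_of_mv hK x.2 y.2 hv e), fun w => by
      obtain ⟨y, hy, e⟩ := of_kw (K := K) (v := v) (w := w) (h2 ▸ Submodule.mem_top)
      exact ⟨⟨y, hy⟩, e.symm⟩⟩).finrank_eq
    rw [hK.finrank_eq, h.toSpc.finrank_V] at h3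
    have h4 := h.four
    rcases hs.eq_one_or_self_of_dvd 2 ⟨m, h3⟩ with e | e <;> omega
  · have key : ∀ y ∈ K, ∀ w w' : Fin n → F, w ≠ 0 → Q w = Q v → w' ≠ 0 → Q w' = Q v → w = y *ᵥ w' →
        ∃ d : F, y = d • (1 : Matrix (Fin n) (Fin n) F) := by
      intro y hy w w' a1 a2 a3 a4 e
      obtain ⟨t, ht, c, c0, rfl⟩ := h.move_pt hB hv a1 a2.symm
      obtain ⟨t', ht', c', c0', rfl⟩ := h.move_pt hB hv a3 a4.symm
      have e1 : ((t'⁻¹ * t : GL (Fin n) F) : Matrix (Fin n) (Fin n) F) *ᵥ v = ((c⁻¹ * c') • y) *ᵥ v := by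
        rw [mul_mv, Matrix.smul_mulVec, mul_smul, ← inv_mv t' (y *ᵥ v), comm_mv (hc t' ht' y hy), ← Matrix.mulVec_smul,
          ← Matrix.mulVec_smul y, ← e, ← Matrix.mulVec_smul, inv_smul_smul₀ c0]
      have m1 : t'⁻¹ * t ∈ T := T.mul_mem (T.inv_mem ht') ht
      obtain ⟨d, hd⟩ := mem_St_pt.1 (h1 ⟨m1, mem_St.2 fun u hu => by
        obtain ⟨z, hz, rfl⟩ := of_kw hu
        rw [comm_mv (hc _ m1 z hz), e1, Matrix.mulVec_mulVec]
        exact mem_kw (K.mul_mem hz (K.smul_mem hy _)) v⟩)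
      have e2 := eq_of_mv hK (K.smul_mem hy (c⁻¹ * c')) (K.smul_mem K.one_mem d) hv
        (by rw [← e1, hd, Matrix.smul_mulVec, Matrix.one_mulVec])
      exact ⟨(c⁻¹ * c')⁻¹ * d, by rw [mul_smul, ← e2, inv_smul_smul₀ (mul_ne_zero (inv_ne_zero c0) c0')]⟩
    obtain ⟨y, hy, ns⟩ := H879.exists_nonscalar hK hs.two_le
    let μ : Option F → Matrix (Fin n) (Fin n) F := fun i => i.elim 1 fun c => y + c • 1
    have μK : ∀ i, μ i ∈ K := fun i => by
      cases i with
      | none => exact K.one_mem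
      | some c => exact K.add_mem hy (K.smul_mem K.one_mem c)
    have one0 : (1 : Matrix (Fin n) (Fin n) F) ≠ 0 := fun e => hv (by rw [← Matrix.one_mulVec v, e, Matrix.zero_mulVec])
    have μ0 : ∀ i, μ i ≠ 0 := fun i => by
      cases i with
      | none => exact one0
      | some c => exact fun e => ns (-c) (by rw [neg_smul]; exact eq_neg_of_add_eq_zero_left e)
    have μi : ∀ i j (d : F), μ j = d • μ i → i = j := fun i j d e => by
      have d0 : d ≠ 0 := fun k => μ0 j (by rw [e, k, zero_smul])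
      cases i with
      | none =>
        cases j with
        | none => rfl
        | some c => exact (ns (d - c) (by rw [sub_smul]; exact eq_sub_of_add_eq e)).elim
      | some b =>
        cases j with
        | none =>
          have e' : (1 : Matrix (Fin n) (Fin n) F) = d • (y + b • 1) := e
          refine (ns (d⁻¹ - b) ?_).elim
          rw [sub_smul, eq_sub_iff_add_eq, eq_inv_smul_iff₀ d0]
          exact e'.symm
        | some c =>
          have e' : y + c • (1 : Matrix (Fin n) (Fin n) F) = d • (y + b • 1) := e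
          by_cases d1 : d = 1
          · rw [d1, one_smul, add_right_inj] at e'
            rw [smul_left_injective F one0 e']
          · refine (ns ((1 - d)⁻¹ * (d * b - c)) ?_).elim
            rw [mul_smul, eq_inv_smul_iff₀ (sub_ne_zero.2 (Ne.symm d1))]
            linear_combination (norm := module) e'
    have inj : Function.Injective fun x : Option F × {w : Fin n → F // w ≠ 0 ∧ Q w = Q v} => μ x.1 *ᵥ (x.2 : Fin n → F) := by
      rintro ⟨i, w, a1, a2⟩ ⟨j, w', a3, a4⟩ e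
      have e' : μ i *ᵥ w = μ j *ᵥ w' := e
      obtain ⟨z, hz, ez⟩ := hK.inv _ (μK i) (μ0 i)
      have e1 : w = (z * μ j) *ᵥ w' := by
        rw [← Matrix.mulVec_mulVec, ← e', Matrix.mulVec_mulVec, hK.comm z hz _ (μK i), ez, Matrix.one_mulVec]
      obtain ⟨d, hd⟩ := key _ (K.mul_mem hz (μK j)) w w' a1 a2 a3 a4 e1
      obtain rfl := μi i j d (by rw [← one_mul (μ j), ← ez, mul_assoc, hd, mul_smul_comm, mul_one])
      rw [hK.comm z hz _ (μK i), ez, Matrix.one_mulVec] at e1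
      subst e1
      rfl
    have h2 := Nat.card_le_card_of_injective _ inj
    rw [Nat.card_prod, Finite.card_option, Module.natCard_eq_pow_finrank (K := F) (V := Fin n → F), h.toSpc.finrank_V] at h2
    exact absurd (count h.toSpc (Q v)) (not_lt.2 h2)

theorem boxG1h : BoxG1h := by
  intro F _ _ n m s Q T B K e f h hs hK hc hq hef hB
  obtain ⟨y, hy, ns⟩ := H879.exists_nonscalar hK hs.two_le
  have val : ∀ e' f', Hyp Q e' f' → polar Q (y *ᵥ e') f' = polar Q (y *ᵥ e) f ∨ polar Q (y *ᵥ e') f' = polar Q (y *ᵥ f) e := by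
    intro e' f' h'
    obtain ⟨g, hg, rfl, rfl⟩ := h.toSpc.trans_hyp hef h'
    obtain ⟨t, ht, b, hb, rfl⟩ := h.fac g hg
    rw [mul_mv, mul_mv, ← comm_mv (hc t ht y hy), polar_mv (h.leX ht)]
    have p1 := polar_mv (h.leY hb) e f
    obtain ⟨c, h1⟩ := sing_plane hef (mem_St.1 (hB hb) e (Submodule.subset_span (by simp))) ((Q_mv (h.leY hb) e).trans hef.left)
    obtain ⟨d, h2⟩ := sing_plane hef (mem_St.1 (hB hb) f (Submodule.subset_span (by simp))) ((Q_mv (h.leY hb) f).trans hef.right)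
    rw [hef.pair] at p1
    rcases h1 with h1 | h1 <;> rcases h2 with h2 | h2 <;> rw [h1, h2, polar_smul_left, polar_smul_right] at p1 <;>
      rw [h1, h2, Matrix.mulVec_smul, polar_smul_left, polar_smul_right, smul_smul]
    · rw [hef.polar_left] at p1
      simp at p1
    · rw [hef.pair, smul_smul, smul_eq_mul, mul_one] at p1
      exact Or.inl (by rw [p1, one_smul])
    · rw [hef.pair', smul_smul, smul_eq_mul, mul_one] at p1
      exact Or.inr (by rw [p1, one_smul])
    · rw [hef.polar_right] at p1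
      simp at p1
  have add : ∀ (f' w : Fin n → F) (c : F), Hyp Q e f' → Q w = 0 → polar Q e w = 0 → polar Q f' w = 0 → Hyp Q e (f' + c • w) :=
    fun f' w c h' a1 a2 a3 => ⟨h'.left, by
      rw [Q_add, QuadraticMap.map_smul, h'.right, a1, polar_smul_right, a3]; simp, by
      rw [polar_add_right, polar_smul_right, a2, h'.pair]; simp⟩
  have zero : ∀ f' w, Hyp Q e f' → Q w = 0 → polar Q e w = 0 → polar Q f' w = 0 → polar Q (y *ᵥ e) w = 0 := by
    intro f' w h' a1 a2 a3
    by_contra hn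
    have v1 := fun c => val _ _ (add f' w c h' a1 a2 a3)
    have v2 : ∀ c d : F, polar Q (y *ᵥ e) (f' + c • w) = polar Q (y *ᵥ e) (f' + d • w) → c = d := fun c d k => by
      rw [polar_add_right, polar_add_right, polar_smul_right, polar_smul_right, add_right_inj] at k
      exact mul_right_cancel₀ hn k
    obtain ⟨a, b, c, k1, k2, k3⟩ := Fintype.two_lt_card_iff.1 hq
    rcases v1 a with ea | ea <;> rcases v1 b with eb | eb <;> rcases v1 c with ec | ec <;>
      first | exact k1 (v2 _ _ (ea.trans eb.symm)) | exact k2 (v2 _ _ (ea.trans ec.symm)) | exact k3 (v2 _ _ (eb.trans ec.symm))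
  obtain ⟨w, z, hwz, a1, a2, a3, a4⟩ := h.good.exists_hyp2 hef
  have all : ∀ u, polar Q e u = 0 → polar Q f u = 0 → polar Q (y *ᵥ e) u = 0 :=
    sing_induction_perp hwz a1 a2 a3 a4 (P := fun u => polar Q (y *ᵥ e) u = 0)
      (fun a c _ _ _ _ k1 k2 => by rw [polar_add_right, k1, k2, add_zero]) fun a k1 k2 k3 => zero f a hef k1 k2 k3
  have ee : polar Q (y *ᵥ e) e = 0 := by
    have k := zero (f + (1 : F) • w) (z - e) (add f w 1 hef hwz.left a1 a3)
      (by rw [sub_eq_add_neg, Q_add, QuadraticMap.map_neg, polar_neg_right, polar_comm Q z e, a2, hwz.right, hef.left]; simp)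
      (by rw [polar_sub_right, a2, hef.polar_left, sub_zero])
      (by rw [one_smul, polar_add_left, polar_sub_right, polar_sub_right, a4, hef.pair', hwz.pair, polar_comm Q w e, a1]; simp)
    rwa [polar_sub_right, all z a2 a4, zero_sub, neg_eq_zero] at k
  have pz : LieClassical.OrthTrans.proj Q e f (y *ᵥ e) = 0 := h.toSpc.nd _ fun u => by
    rw [← polar_proj_of_perp (polar_proj_left hef _) (polar_proj_right hef _) u, polar_comm,
      polar_proj_of_perp (polar_proj_left hef _) (polar_proj_right hef _), polar_comm]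
    exact all _ (polar_proj_left hef _) (polar_proj_right hef _)
  rw [LieClassical.OrthTrans.proj, polar_comm Q e, ee, zero_smul, sub_zero, sub_eq_zero] at pz
  exact ns _ (eq_of_mv hK hy (K.smul_mem K.one_mem _) hef.left_ne (by rw [Matrix.smul_mulVec, Matrix.one_mulVec]; exact pz))

end Cfsg.Agent.SM.Om
end
end
end
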